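import Groth.Prelude.Def_DeRham
import Groth.Agent.Lib.DeRham.Basic

/-!
# Families of maps on forms are determined by their values on generators

Existence of the de Rham differential on Kähler forms and on their quotients.
-/

set_option autoImplicit false
set_option linter.style.haveILetI false
universe u v u' v'

open exteriorPower

namespace Groth.Agent.DeRhamH7

section General

variable {R : Type v} {A M : Type u} [CommRing R] [CommRing A] [Algebra R A]
  [AddCommGroup M] [Module A M] [Module R M] {δ : Derivation R A M}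

theorem gen_induction (hδ : Submodule.span A (Set.range δ) = ⊤) {p : ℕ} {P : ↥(⋀[A]^p M) → Prop}
    (h0 : P 0) (hadd : ∀ x y, P x → P y → P (x + y))
    (hgen : ∀ (b₀ : A) (b : Fin p → A), P (DeRham.gen δ p b₀ b)) (x : ↥(⋀[A]^p M)) : P x := by
  have key : ∀ a : A, P (a • x) := by
    have hx : x ∈ Submodule.span A (ιMulti A p '' {a | Set.range a ⊆ Set.range δ}) := by
      rw [ιMulti_span_of_span A p M hδ]
      exact Submodule.mem_top
    induction hx using Submodule.span_induction with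
    | mem x hx =>
      obtain ⟨v, hv, rfl⟩ := hx
      choose b hb using fun i => hv ⟨i, rfl⟩
      intro a
      have := hgen a b
      rwa [DeRham.gen, show (fun i => δ (b i)) = v from funext hb] at this
    | zero => intro a; rwa [smul_zero]
    | add x y _ _ hx hy => intro a; rw [smul_add]; exact hadd _ _ (hx a) (hy a)
    | smul c x _ hx => intro a; rw [smul_smul]; exact hx _
  simpa using key 1

theorem ext_gen (hδ : Submodule.span A (Set.range δ) = ⊤) {p : ℕ} {N : Type*} [AddCommGroup N]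
    {f g : ↥(⋀[A]^p M) →+ N} (h : ∀ (b₀ : A) (b : Fin p → A), f (DeRham.gen δ p b₀ b) = g (DeRham.gen δ p b₀ b)) :
    f = g := by
  ext x
  induction x using gen_induction hδ with
  | h0 => rw [map_zero, map_zero]
  | hadd x y hx hy => rw [map_add, map_add, hx, hy]
  | hgen b₀ b => exact h b₀ b

theorem gen_one (p : ℕ) (b : Fin p → A) : DeRham.gen δ p 1 b = ιMulti A p (fun i => δ (b i)) := one_smul _ _

theorem cons_comp {p : ℕ} (b₀ : A) (b : Fin p → A) :
    (Fin.cons (δ b₀) (fun i => δ (b i)) : Fin (p + 1) → M) = fun i => δ ((Fin.cons b₀ b : Fin (p + 1) → A) i) := by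
  funext i
  refine Fin.cases ?_ (fun j => ?_) i <;> simp

variable [IsScalarTower R A M]

/-- The rule forces `d ∘ d = 0`. -/
theorem isDiff_of_isRule (hδ : Submodule.span A (Set.range δ) = ⊤)
    {d : ∀ p : ℕ, ↥(⋀[A]^p M) →ₗ[R] ↥(⋀[A]^(p + 1) M)} (hd : DeRham.IsRule δ d) : DeRham.IsDiff δ d := by
  refine ⟨hd, fun p => LinearMap.ext fun x => ?_⟩
  induction x using gen_induction hδ with
  | h0 => simp
  | hadd x y hx hy => rw [map_add, map_add, hx, hy]
  | hgen b₀ b =>
    rw [LinearMap.comp_apply, hd p b₀ b, cons_comp, ← gen_one, hd]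
    refine (ιMulti A (p + 1 + 1)).map_coord_zero 0 ?_
    simp [Derivation.map_one_eq_zero]

end General

section Comm

variable {R : Type v} {A M : Type u} {R' : Type v'} {A' M' : Type u'} [CommRing R] [CommRing A] [Algebra R A]
  [AddCommGroup M] [Module A M] [Module R M] [IsScalarTower R A M]
  [CommRing R'] [CommRing A'] [Algebra R' A']
  [AddCommGroup M'] [Module A' M'] [Module R' M'] [IsScalarTower R' A' M']
  {δ : Derivation R A M} {δ' : Derivation R' A' M'} {g : A →+* A'}

/-- A map of forms commutes with the differentials. -/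
theorem comm_of_isRule (hδ : Submodule.span A (Set.range δ) = ⊤)
    {d : ∀ p : ℕ, ↥(⋀[A]^p M) →ₗ[R] ↥(⋀[A]^(p + 1) M)} (hd : DeRham.IsRule δ d)
    {d' : ∀ p : ℕ, ↥(⋀[A']^p M') →ₗ[R'] ↥(⋀[A']^(p + 1) M')} (hd' : DeRham.IsRule δ' d')
    {ψ : ∀ p : ℕ, ↥(⋀[A]^p M) →+ ↥(⋀[A']^p M')} (hψ : DeRham.IsCxMap δ δ' g ψ)
    (p : ℕ) (x : ↥(⋀[A]^p M)) : ψ (p + 1) (d p x) = d' p (ψ p x) := by
  induction x using gen_induction hδ with
  | h0 => simp
  | hadd x y hx hy => rw [map_add, map_add, hx, hy, map_add, map_add]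
  | hgen b₀ b =>
    rw [hd p b₀ b, cons_comp, ← gen_one, hψ, hψ, hd', map_one, gen_one, cons_comp]
    congr 1
    funext i
    refine Fin.cases ?_ (fun j => ?_) i <;> simp

end Comm

section CxMap

variable {R : Type v} {A M : Type u} {R' : Type v'} {A' M' : Type u'} [CommRing R] [CommRing A] [Algebra R A]
  [AddCommGroup M] [Module A M] [Module R M]
  [CommRing R'] [CommRing A'] [Algebra R' A']
  [AddCommGroup M'] [Module A' M'] [Module R' M']
  [Algebra A A'] [Module A M'] [IsScalarTower A A' M']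

/-- An `A`-linear map of receptacles intertwining the derivations induces a map of forms. -/
theorem exists_isCxMap (δ : Derivation R A M) (δ' : Derivation R' A' M') (l : M →ₗ[A] M')
    (hl : ∀ a, l (δ a) = δ' (algebraMap A A' a)) :
    ∃ ψ : ∀ p : ℕ, ↥(⋀[A]^p M) →+ ↥(⋀[A']^p M'),
      DeRham.IsCxMap δ δ' (algebraMap A A') ψ := by
  let alt : ∀ p : ℕ, M [⋀^Fin p]→ₗ[A] ↥(⋀[A']^p M') := fun p =>
    { toMultilinearMap := ((ιMulti A' p (M := M')).toMultilinearMap.restrictScalars A).compLinearMap fun _ => l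
      map_eq_zero_of_eq' := fun v i j h hij => (ιMulti A' p (M := M')).map_eq_zero_of_eq _ (congrArg l h) hij }
  refine ⟨fun p => (alternatingMapLinearEquiv (alt p)).toAddMonoidHom, fun p b₀ b => ?_⟩
  show alternatingMapLinearEquiv (alt p) (b₀ • ιMulti A p _) = _
  rw [map_smul, alternatingMapLinearEquiv_apply_ιMulti, ← algebraMap_smul A' b₀]
  show algebraMap A A' b₀ • ιMulti A' p (fun i => l (δ (b i))) = _
  simp only [hl]
  rfl

end CxMap

section Kaehler

open KaehlerDifferential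

variable (R A : Type u) [CommRing R] [CommRing A] [Algebra R A]

theorem dR_ιMulti (p : ℕ) (b : Fin p → A) :
    Groth.Agent.DeRham.dR R A (ExteriorAlgebra.ιMulti A p fun i => D R A (b i)) = 0 := by
  induction p with
  | zero =>
    rw [ExteriorAlgebra.ιMulti_zero_apply, ← map_one (algebraMap A (ExteriorAlgebra A _)),
      DeRham.dR_algebraMap, Derivation.map_one_eq_zero, map_zero]
  | succ p ih =>
    rw [ExteriorAlgebra.ιMulti_succ_apply, DeRham.dR_mul, DeRham.dR_ι_D, zero_mul, zero_add]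
    show _ * Groth.Agent.DeRham.dR R A (ExteriorAlgebra.ιMulti A p fun i => D R A (b i.succ)) = 0
    rw [ih, mul_zero]

/-- The de Rham differential exists on Kähler forms. -/
theorem exists_isDiff_kaehler :
    ∃ d : ∀ p : ℕ, ↥(⋀[A]^p Ω[A⁄R]) →ₗ[R] ↥(⋀[A]^(p + 1) Ω[A⁄R]),
      DeRham.IsDiff (D R A) d ∧
        ∀ (p : ℕ) (x : ↥(⋀[A]^p Ω[A⁄R])), ((d p x : ↥(⋀[A]^(p + 1) Ω[A⁄R])) : ExteriorAlgebra A Ω[A⁄R]) =
          Groth.Agent.DeRham.dR R A (x : ExteriorAlgebra A Ω[A⁄R]) := by
  let d : ∀ p : ℕ, ↥(⋀[A]^p Ω[A⁄R]) →ₗ[R] ↥(⋀[A]^(p + 1) Ω[A⁄R]) := fun p =>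
    { toFun := fun x => ⟨Groth.Agent.DeRham.dR R A x.1, DeRham.dR_mem R A p x.1 x.2⟩
      map_add' := fun x y => Subtype.ext (map_add (Groth.Agent.DeRham.dR R A) x.1 y.1)
      map_smul' := fun r x => Subtype.ext ((Groth.Agent.DeRham.dR R A).map_smul r x.1) }
  refine ⟨d, isDiff_of_isRule (span_range_derivation R A) (fun p b₀ b => Subtype.ext ?_), fun p x => rfl⟩
  show Groth.Agent.DeRham.dR R A (b₀ • ExteriorAlgebra.ιMulti A p fun i => D R A (b i)) =
    ExteriorAlgebra.ιMulti A (p + 1) (Fin.cons (D R A b₀) fun i => D R A (b i))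
  rw [Algebra.smul_def, DeRham.dR_mul, DeRham.dR_algebraMap, dR_ιMulti, mul_zero, add_zero,
    ExteriorAlgebra.ιMulti_succ_apply]
  simp [Matrix.vecTail, Function.comp_def]

end Kaehler

section Quotient

open KaehlerDifferential

variable (R A : Type u) [CommRing R] [CommRing A] [Algebra R A]

theorem exists_eq_of_ker {M M' : Type u} [AddCommGroup M] [Module A M] [AddCommGroup M'] [Module A M']
    (π : M →ₗ[A] M') (hπ : Function.Surjective π) (x : ExteriorAlgebra A M)
    (hx : ExteriorAlgebra.map π x = 0) :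
    x ∈ Ideal.span (ExteriorAlgebra.ι A '' (LinearMap.ker π : Set M)) := by
  let I : Ideal (ExteriorAlgebra A M) := Ideal.span (ExteriorAlgebra.ι A '' (LinearMap.ker π : Set M))
  haveI hI : I.IsTwoSided := ⟨fun {a} y ha => by
    induction ha using Submodule.span_induction generalizing y with
    | mem z hz =>
      obtain ⟨m, hm, rfl⟩ := hz
      rw [DeRham.ι_mul_eq_involute_mul]
      exact I.mul_mem_left _ (Ideal.subset_span ⟨m, hm, rfl⟩)
    | zero => rw [zero_mul]; exact zero_mem _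
    | add z w _ _ hz hw => rw [add_mul]; exact add_mem (hz y) (hw y)
    | smul c z _ hz => rw [smul_eq_mul, mul_assoc]; exact I.mul_mem_left _ (hz y)⟩
  let q := Ideal.Quotient.mkₐ A I
  let l₀ : M →ₗ[A] ExteriorAlgebra A M ⧸ I := q.toLinearMap ∘ₗ ExteriorAlgebra.ι A
  have hl₀ : LinearMap.ker π ≤ LinearMap.ker l₀ := fun m hm =>
    Ideal.Quotient.eq_zero_iff_mem.2 (Ideal.subset_span ⟨m, hm, rfl⟩)
  let l : M' →ₗ[A] ExteriorAlgebra A M ⧸ I :=
    (LinearMap.ker π).liftQ l₀ hl₀ ∘ₗ (π.quotKerEquivOfSurjective hπ).symm.toLinearMap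
  have hl : ∀ m, l (π m) = q (ExteriorAlgebra.ι A m) := fun m => by
    show (LinearMap.ker π).liftQ l₀ hl₀ ((π.quotKerEquivOfSurjective hπ).symm (π m)) = _
    rw [show π m = π.quotKerEquivOfSurjective hπ (Submodule.Quotient.mk m) from rfl, LinearEquiv.symm_apply_apply]
    rfl
  have hsq : ∀ m, l m * l m = 0 := fun m => by
    obtain ⟨m, rfl⟩ := hπ m
    rw [hl, ← map_mul, ExteriorAlgebra.ι_sq_zero, map_zero]
  let Ψ := ExteriorAlgebra.lift A ⟨l, hsq⟩
  have hΨ : Ψ.comp (ExteriorAlgebra.map π) = q := ExteriorAlgebra.hom_ext (LinearMap.ext fun m => by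
    show Ψ (ExteriorAlgebra.map π (ExteriorAlgebra.ι A m)) = q (ExteriorAlgebra.ι A m)
    rw [ExteriorAlgebra.map_apply_ι, ExteriorAlgebra.lift_ι_apply, hl])
  have := AlgHom.congr_fun hΨ x
  rw [AlgHom.comp_apply, hx, map_zero] at this
  exact Ideal.Quotient.eq_zero_iff_mem.1 this.symm

/-- The de Rham differential descends to a quotient receptacle satisfying the kernel condition. -/
theorem exists_isDiff_quotient (Ω' : Type u)
    [AddCommGroup Ω'] [Module A Ω'] [Module R Ω'] [IsScalarTower R A Ω']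
    (π : Ω[A⁄R] →ₗ[A] Ω') (hπ : Function.Surjective π)
    (dA : ∀ p : ℕ, ↥(⋀[A]^p (Ω[A⁄R])) →ₗ[R] ↥(⋀[A]^(p + 1) (Ω[A⁄R])))
    (hdA : DeRham.IsDiff (D R A) dA)
    (hker : LinearMap.ker π ≤ Submodule.span A {ω : Ω[A⁄R] | π ω = 0 ∧
      exteriorPower.map 2 π (dA 1 ((exteriorPower.oneEquiv A (Ω[A⁄R])).symm ω)) = 0}) :
    ∃ d : ∀ p : ℕ, ↥(⋀[A]^p Ω') →ₗ[R] ↥(⋀[A]^(p + 1) Ω'),
      DeRham.IsDiff (π.compDer (D R A)) d ∧
        ∀ (p : ℕ) (x : ↥(⋀[A]^p (Ω[A⁄R]))),
          d p (exteriorPower.map p π x) = exteriorPower.map (p + 1) π (dA p x) := by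
  obtain ⟨dK, hdK, hdKc⟩ := exists_isDiff_kaehler R A
  have hdA' : ∀ p x, dA p x = dK p x := fun p x => DFunLike.congr_fun
    (ext_gen (span_range_derivation R A) (f := (dA p).toAddMonoidHom) (g := (dK p).toAddMonoidHom)
      fun b₀ b => (hdA.1 p b₀ b).trans (hdK.1 p b₀ b).symm) x
  let Eπ := ExteriorAlgebra.map π
  have hmap : ∀ (p : ℕ) (x : ↥(⋀[A]^p Ω[A⁄R])),
      ((exteriorPower.map p π x : ↥(⋀[A]^p Ω')) : ExteriorAlgebra A Ω') = Eπ x := fun p x => by
    refine LinearMap.congr_fun (f := (Submodule.subtype _) ∘ₗ exteriorPower.map p π)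
      (g := Eπ.toLinearMap ∘ₗ Submodule.subtype _) (exteriorPower.linearMap_ext (AlternatingMap.ext fun v => ?_)) x
    simp only [LinearMap.compAlternatingMap_apply, LinearMap.comp_apply, Submodule.subtype_apply,
      map_apply_ιMulti, ιMulti_apply_coe, AlgHom.toLinearMap_apply, Eπ, ExteriorAlgebra.map_apply_ιMulti]
  have hN : ∀ m ∈ LinearMap.ker π, Eπ (DeRham.dR R A (ExteriorAlgebra.ι A m)) = 0 := by
    intro m hm
    have hm' := hker hm
    clear hm
    induction hm' using Submodule.span_induction with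
    | mem z hz =>
      obtain ⟨-, h2⟩ := hz
      have h3 := congrArg (Subtype.val) h2
      rw [hmap, hdA', hdKc, ZeroMemClass.coe_zero] at h3
      refine Eq.trans ?_ h3
      congr 2
      rw [show ((exteriorPower.oneEquiv A Ω[A⁄R]).symm z : ↥(⋀[A]^1 Ω[A⁄R])) =
        ιMulti A 1 (fun _ => z) from (exteriorPower.oneEquiv A Ω[A⁄R]).injective (by
          rw [LinearEquiv.apply_symm_apply, oneEquiv_ιMulti])]
      simp [ExteriorAlgebra.ιMulti_succ_apply]
    | zero => simp
    | add z w _ _ hz hw => rw [map_add, map_add, map_add, hz, hw, add_zero]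
    | smul a z hz' hz =>
      have hπz : π z = 0 := by
        clear hz
        induction hz' using Submodule.span_induction with
        | mem y hy => exact hy.1
        | zero => exact map_zero _
        | add y w _ _ hy hw => rw [map_add, hy, hw, add_zero]
        | smul c y _ hy => rw [map_smul, hy, smul_zero]
      rw [map_smul, Algebra.smul_def, DeRham.dR_mul, map_add, map_mul, map_mul, hz, mul_zero, add_zero]
      rw [show Eπ (ExteriorAlgebra.ι A z) = 0 by rw [ExteriorAlgebra.map_apply_ι, hπz, map_zero], mul_zero]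
  have hI : ∀ x ∈ Ideal.span (ExteriorAlgebra.ι A '' (LinearMap.ker π : Set Ω[A⁄R])),
      Eπ x = 0 ∧ Eπ (DeRham.dR R A x) = 0 := by
    intro x hx
    induction hx using Submodule.span_induction with
    | mem z hz =>
      obtain ⟨m, hm, rfl⟩ := hz
      exact ⟨by rw [ExteriorAlgebra.map_apply_ι, show π m = 0 from hm, map_zero], hN m hm⟩
    | zero => simp
    | add z w _ _ hz hw => simp [map_add, hz.1, hz.2, hw.1, hw.2]
    | smul c z _ hz =>
      rw [smul_eq_mul, DeRham.dR_mul, map_add, map_mul, map_mul, map_mul, hz.1, hz.2, mul_zero, mul_zero, mul_zero,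
        add_zero]
      exact ⟨rfl, rfl⟩
  have hwd : ∀ (p : ℕ) (x : ↥(⋀[A]^p Ω[A⁄R])), exteriorPower.map p π x = 0 →
      exteriorPower.map (p + 1) π (dA p x) = 0 := fun p x hx => Subtype.ext (by
    have h1 : Eπ x = 0 := by rw [← hmap, hx]; rfl
    rw [hmap, hdA', hdKc]
    exact (hI _ (exists_eq_of_ker A π hπ _ h1)).2)
  let P : ∀ p, ↥(⋀[A]^p Ω[A⁄R]) →ₗ[R] ↥(⋀[A]^p Ω') := fun p => (exteriorPower.map p π).restrictScalars R
  have hP : ∀ p, Function.Surjective (P p) := fun p => exteriorPower.map_surjective hπ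
  let d : ∀ p, ↥(⋀[A]^p Ω') →ₗ[R] ↥(⋀[A]^(p + 1) Ω') := fun p =>
    (LinearMap.ker (P p)).liftQ (P (p + 1) ∘ₗ dA p) (fun x hx => hwd p x hx) ∘ₗ
      ((P p).quotKerEquivOfSurjective (hP p)).symm.toLinearMap
  have hd : ∀ (p : ℕ) (x : ↥(⋀[A]^p Ω[A⁄R])),
      d p (exteriorPower.map p π x) = exteriorPower.map (p + 1) π (dA p x) := fun p x => by
    show (LinearMap.ker (P p)).liftQ (P (p + 1) ∘ₗ dA p) (fun x hx => hwd p x hx) (((P p).quotKerEquivOfSurjective (hP p)).symm (P p x)) = _
    rw [show P p x = (P p).quotKerEquivOfSurjective (hP p) (Submodule.Quotient.mk x) from rfl,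
      LinearEquiv.symm_apply_apply]
    rfl
  have hspan : Submodule.span A (Set.range (π.compDer (D R A))) = ⊤ := by
    rw [show Set.range (π.compDer (D R A)) = π '' Set.range (D R A) from Set.range_comp π (D R A),
      Submodule.span_image, span_range_derivation, Submodule.map_top, LinearMap.range_eq_top.2 hπ]
  refine ⟨d, isDiff_of_isRule hspan (fun p b₀ b => ?_), hd⟩
  have h1 : DeRham.gen (π.compDer (D R A)) p b₀ b = exteriorPower.map p π (DeRham.gen (D R A) p b₀ b) := by
    rw [DeRham.gen, DeRham.gen, map_smul, map_apply_ιMulti]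
    rfl
  rw [h1, hd, hdA.1, map_apply_ιMulti]
  congr 1
  funext i
  refine Fin.cases ?_ (fun j => ?_) i <;> simp

end Quotient

end Groth.Agent.DeRhamH7
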