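import Groth.Agent.Lib.DeRhamH7.Gen
import Mathlib.Algebra.Polynomial.Derivation
import Mathlib.Algebra.Algebra.Rat

/-!
# Homotopy invariance of the de Rham complex along `A → A[X]` over `ℚ`

Eigenvalues of the Lie derivative along `X ∂/∂X`.
-/

set_option autoImplicit false
set_option linter.style.haveILetI false
universe u

open exteriorPower KaehlerDifferential Polynomial

namespace Groth.Agent.DeRhamH7

variable (R A : Type u) [CommRing R] [CommRing A] [Algebra R A]

/-- The Euler derivation `X ∂/∂X` of `A[X]`. -/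
noncomputable def eulX : Derivation R A[X] A[X] :=
  Derivation.mk' ((LinearMap.mulLeft R (X : A[X])).comp (derivative.restrictScalars R)) fun a b => by
    simp [derivative_mul]
    ring

theorem eulX_C (a : A) : eulX R A (C a) = 0 := by simp [eulX]
theorem eulX_X : eulX R A X = X := by simp [eulX]
theorem eulX_monomial (n : ℕ) (a : A) : eulX R A (monomial n a) = n • monomial n a := by
  show X * derivative (monomial n a) = _
  rw [derivative_monomial, X_mul_monomial]
  rcases n with - | n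
  · simp
  · simp [smul_monomial, mul_comm]

/-- Contraction with the Euler field. -/
noncomputable def contrX : ExteriorAlgebra A[X] Ω[A[X]⁄R] →ₗ[R] ExteriorAlgebra A[X] Ω[A[X]⁄R] :=
  (CliffordAlgebra.contractLeft (Q := (0 : QuadraticForm A[X] Ω[A[X]⁄R]))
    (eulX R A).liftKaehlerDifferential).restrictScalars R

/-- Lie derivative along the Euler field. -/
noncomputable def lieX : ExteriorAlgebra A[X] Ω[A[X]⁄R] →ₗ[R] ExteriorAlgebra A[X] Ω[A[X]⁄R] :=
  (DeRham.dR R A[X]).comp (contrX R A) + (contrX R A).comp (DeRham.dR R A[X])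

theorem contrX_algebraMap (a : A[X]) : contrX R A (algebraMap A[X] _ a) = 0 :=
  CliffordAlgebra.contractLeft_algebraMap _ _ a

theorem contrX_algebraMap_mul (a : A[X]) (y : ExteriorAlgebra A[X] Ω[A[X]⁄R]) :
    contrX R A (algebraMap A[X] _ a * y) = algebraMap A[X] _ a * contrX R A y := by
  rw [← Algebra.smul_def (R := A[X]) (A := ExteriorAlgebra A[X] Ω[A[X]⁄R]),
    ← Algebra.smul_def (R := A[X]) (A := ExteriorAlgebra A[X] Ω[A[X]⁄R])]
  exact map_smul ((CliffordAlgebra.contractLeft (Q := (0 : QuadraticForm A[X] Ω[A[X]⁄R])))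
    (eulX R A).liftKaehlerDifferential) a y

theorem contrX_ι_D_mul (a : A[X]) (y : ExteriorAlgebra A[X] Ω[A[X]⁄R]) :
    contrX R A (ExteriorAlgebra.ι A[X] (D R A[X] a) * y) =
      algebraMap A[X] _ (eulX R A a) * y - ExteriorAlgebra.ι A[X] (D R A[X] a) * contrX R A y := by
  show CliffordAlgebra.contractLeft (eulX R A).liftKaehlerDifferential _ = _
  rw [CliffordAlgebra.contractLeft_ι_mul, Derivation.liftKaehlerDifferential_comp_D, Algebra.smul_def]
  rfl

theorem dR_ι_D_mul (a : A[X]) (y : ExteriorAlgebra A[X] Ω[A[X]⁄R]) :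
    DeRham.dR R A[X] (ExteriorAlgebra.ι A[X] (D R A[X] a) * y) =
      -(ExteriorAlgebra.ι A[X] (D R A[X] a) * DeRham.dR R A[X] y) := by
  rw [DeRham.dR_mul, DeRham.dR_ι_D, CliffordAlgebra.involute_ι]
  simp

theorem lieX_algebraMap_mul (a : A[X]) (y : ExteriorAlgebra A[X] Ω[A[X]⁄R]) :
    lieX R A (algebraMap A[X] _ a * y) =
      algebraMap A[X] _ (eulX R A a) * y + algebraMap A[X] _ a * lieX R A y := by
  simp only [lieX, LinearMap.add_apply, LinearMap.comp_apply, contrX_algebraMap_mul, DeRham.dR_mul,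
    DeRham.dR_algebraMap, AlgHom.commutes, map_add, contrX_ι_D_mul, mul_add]
  abel

theorem lieX_ι_D_mul (a : A[X]) (y : ExteriorAlgebra A[X] Ω[A[X]⁄R]) :
    lieX R A (ExteriorAlgebra.ι A[X] (D R A[X] a) * y) =
      ExteriorAlgebra.ι A[X] (D R A[X] (eulX R A a)) * y + ExteriorAlgebra.ι A[X] (D R A[X] a) * lieX R A y := by
  rw [lieX, LinearMap.add_apply, LinearMap.comp_apply, LinearMap.comp_apply, contrX_ι_D_mul, dR_ι_D_mul, map_neg,
    contrX_ι_D_mul, map_sub, DeRham.dR_mul, DeRham.dR_algebraMap, AlgHom.commutes, dR_ι_D_mul, LinearMap.add_apply,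
    LinearMap.comp_apply, LinearMap.comp_apply, mul_add]
  abel

theorem dR_lieX (x : ExteriorAlgebra A[X] Ω[A[X]⁄R]) :
    DeRham.dR R A[X] (lieX R A x) = lieX R A (DeRham.dR R A[X] x) := by
  simp [lieX, DeRham.dR_dR]

theorem dR_aeval_lieX (f : R[X]) (x : ExteriorAlgebra A[X] Ω[A[X]⁄R]) :
    DeRham.dR R A[X] (aeval (lieX R A) f x) = aeval (lieX R A) f (DeRham.dR R A[X] x) := by
  induction f using Polynomial.induction_on' with
  | add f g hf hg => simp [hf, hg]
  | monomial i c =>
    induction i generalizing x with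
    | zero => simp
    | succ i ih =>
      rw [← monomial_mul_X, map_mul, aeval_X, Module.End.mul_apply, Module.End.mul_apply, ih, dR_lieX]

theorem contrX_mem (p : ℕ) (x : ExteriorAlgebra A[X] Ω[A[X]⁄R])
    (hx : x ∈ ExteriorAlgebra.exteriorPower A[X] p Ω[A[X]⁄R]) :
    contrX R A x ∈ ExteriorAlgebra.exteriorPower A[X] (p - 1) Ω[A[X]⁄R] := by
  induction hx using Submodule.pow_induction_on_left' with
  | algebraMap r => rw [contrX_algebraMap]; exact zero_mem _
  | add x y i _ _ ihx ihy => rw [map_add]; exact add_mem ihx ihy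
  | mem_mul m hm i y hy ih =>
    obtain ⟨m, rfl⟩ := hm
    show CliffordAlgebra.contractLeft (eulX R A).liftKaehlerDifferential _ ∈ _
    rw [CliffordAlgebra.contractLeft_ι_mul, Nat.succ_sub_one]
    refine sub_mem (Submodule.smul_mem _ _ hy) ?_
    rcases i with - | i
    · have h0 : contrX R A y = 0 := by
        rw [pow_zero] at hy
        obtain ⟨r, rfl⟩ := Submodule.mem_one.mp hy
        exact contrX_algebraMap R A r
      show ExteriorAlgebra.ι _ m * contrX R A y ∈ _
      rw [h0, mul_zero]; exact zero_mem _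
    · have h := DeRham.mul_mem (DeRham.ι_mem_one m) ih
      rw [show 1 + (i + 1 - 1) = i + 1 by omega] at h
      exact h

/-- Forms which are a pullback from `A` plus eigenvectors of positive weight. -/
noncomputable def wSpan (ψ : ∀ p : ℕ, ↥(⋀[A]^p Ω[A⁄R]) →+ ↥(⋀[A[X]]^p Ω[A[X]⁄R])) (p : ℕ) :
    Submodule R (ExteriorAlgebra A[X] Ω[A[X]⁄R]) :=
  Submodule.span R (Set.range (fun x => ((ψ p x : ↥(⋀[A[X]]^p Ω[A[X]⁄R])) : ExteriorAlgebra A[X] Ω[A[X]⁄R])) ∪
    {x | x ∈ ExteriorAlgebra.exteriorPower A[X] p Ω[A[X]⁄R] ∧ ∃ w : ℕ, 1 ≤ w ∧ lieX R A x = w • x})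

variable {R A}
variable {ψ : ∀ p : ℕ, ↥(⋀[A]^p Ω[A⁄R]) →+ ↥(⋀[A[X]]^p Ω[A[X]⁄R])}
  (hψ : DeRham.IsCxMap (D R A) (D R A[X]) (algebraMap A A[X]) ψ)

include hψ in
theorem psi_gen_coe (p : ℕ) (b₀ : A) (b : Fin p → A) :
    ((ψ p (DeRham.gen (D R A) p b₀ b) : ↥(⋀[A[X]]^p Ω[A[X]⁄R])) : ExteriorAlgebra A[X] Ω[A[X]⁄R]) =
      algebraMap A[X] _ (C b₀) * ExteriorAlgebra.ιMulti A[X] p (fun i => D R A[X] (C (b i))) := by
  rw [hψ, DeRham.gen, Submodule.coe_smul, exteriorPower.ιMulti_apply_coe, Algebra.smul_def]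
  rfl

include hψ in
theorem lieX_psi (p : ℕ) (x : ↥(⋀[A]^p Ω[A⁄R])) :
    lieX R A (ψ p x : ExteriorAlgebra A[X] Ω[A[X]⁄R]) = 0 ∧ contrX R A (ψ p x : ExteriorAlgebra A[X] Ω[A[X]⁄R]) = 0 := by
  induction x using gen_induction (span_range_derivation R A) with
  | h0 => simp
  | hadd x y hx hy => simp [map_add, hx.1, hx.2, hy.1, hy.2]
  | hgen b₀ b =>
    rw [psi_gen_coe hψ]
    have hc : contrX R A (ExteriorAlgebra.ιMulti A[X] p fun i => D R A[X] (C (b i))) = 0 := by
      clear b₀
      induction p with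
      | zero =>
        rw [ExteriorAlgebra.ιMulti_zero_apply, ← map_one (algebraMap A[X] (ExteriorAlgebra A[X] _))]
        exact contrX_algebraMap R A 1
      | succ p ih =>
        rw [ExteriorAlgebra.ιMulti_succ_apply]
        show contrX R A (ExteriorAlgebra.ι A[X] (D R A[X] (C (b 0))) *
          ExteriorAlgebra.ιMulti A[X] p fun i => D R A[X] (C (b i.succ))) = 0
        rw [contrX_ι_D_mul, eulX_C, map_zero, zero_mul, ih, mul_zero, sub_zero]
    refine ⟨?_, by rw [contrX_algebraMap_mul, hc, mul_zero]⟩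
    rw [lieX_algebraMap_mul, eulX_C, map_zero, zero_mul, zero_add]
    simp only [lieX, LinearMap.add_apply, LinearMap.comp_apply, hc, map_zero, dR_ιMulti R A[X] p fun i => C (b i),
      add_zero, mul_zero]

include hψ in
theorem ι_mul_mem_wSpan (p : ℕ) (a : A) {y : ExteriorAlgebra A[X] Ω[A[X]⁄R]} (hy : y ∈ wSpan R A ψ p) :
    ExteriorAlgebra.ι A[X] (D R A[X] (C a)) * y ∈ wSpan R A ψ (p + 1) ∧
      ExteriorAlgebra.ι A[X] (D R A[X] X) * y ∈ wSpan R A ψ (p + 1) := by
  have hmem : ∀ (z : ExteriorAlgebra A[X] Ω[A[X]⁄R]) (m : Ω[A[X]⁄R]),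
      z ∈ ExteriorAlgebra.exteriorPower A[X] p Ω[A[X]⁄R] →
      ExteriorAlgebra.ι A[X] m * z ∈ ExteriorAlgebra.exteriorPower A[X] (p + 1) Ω[A[X]⁄R] := fun z m hz => by
    have := DeRham.mul_mem (DeRham.ι_mem_one m) hz
    rwa [add_comm 1 p] at this
  induction hy using Submodule.span_induction with
  | mem y hy =>
    rcases hy with ⟨x, rfl⟩ | ⟨hyp, w, hw, hyw⟩
    · refine ⟨?_, Submodule.subset_span (Or.inr ⟨hmem _ _ (ψ p x).2, 1, le_rfl, ?_⟩)⟩
      · induction x using gen_induction (span_range_derivation R A) with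
        | h0 => simp
        | hadd x y hx hy => simp only [map_add, Submodule.coe_add, mul_add]; exact add_mem hx hy
        | hgen b₀ b =>
          refine Submodule.subset_span (Or.inl ⟨DeRham.gen (D R A) (p + 1) b₀ (Fin.cons a b), ?_⟩)
          simp only [psi_gen_coe hψ, ExteriorAlgebra.ιMulti_succ_apply, Fin.cons_zero]
          rw [← mul_assoc, ← mul_assoc, Algebra.commutes (C b₀) (ExteriorAlgebra.ι A[X] (D R A[X] (C a)))]
          simp [Matrix.vecTail, Function.comp_def]
      · rw [lieX_ι_D_mul, eulX_X, (lieX_psi hψ p x).1, mul_zero, add_zero, one_smul]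
    · refine ⟨Submodule.subset_span (Or.inr ⟨hmem _ _ hyp, w, hw, ?_⟩),
        Submodule.subset_span (Or.inr ⟨hmem _ _ hyp, w + 1, by omega, ?_⟩)⟩
      · rw [lieX_ι_D_mul, eulX_C, map_zero, map_zero, zero_mul, zero_add, hyw, mul_smul_comm]
      · rw [lieX_ι_D_mul, eulX_X, hyw, mul_smul_comm, succ_nsmul, add_comm]
  | zero => simp
  | add u v _ _ hu hv => exact ⟨by rw [mul_add]; exact add_mem hu.1 hv.1, by rw [mul_add]; exact add_mem hu.2 hv.2⟩
  | smul c u _ hu =>
    exact ⟨by rw [mul_smul_comm]; exact Submodule.smul_mem _ _ hu.1,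
      by rw [mul_smul_comm]; exact Submodule.smul_mem _ _ hu.2⟩

include hψ in
theorem algebraMap_mul_mem_wSpan (p : ℕ) (f : A[X]) {y : ExteriorAlgebra A[X] Ω[A[X]⁄R]} (hy : y ∈ wSpan R A ψ p) :
    algebraMap A[X] _ f * y ∈ wSpan R A ψ p := by
  induction f using Polynomial.induction_on' with
  | add f g hf hg => rw [map_add, add_mul]; exact add_mem hf hg
  | monomial n c =>
    induction hy using Submodule.span_induction with
    | zero => simp
    | add u v _ _ hu hv => rw [mul_add]; exact add_mem hu hv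
    | smul r u _ hu => rw [mul_smul_comm]; exact Submodule.smul_mem _ _ hu
    | mem y hy =>
      have hmem : y ∈ ExteriorAlgebra.exteriorPower A[X] p Ω[A[X]⁄R] →
          algebraMap A[X] _ (monomial n c) * y ∈ ExteriorAlgebra.exteriorPower A[X] p Ω[A[X]⁄R] := fun h => by
        rw [← Algebra.smul_def]; exact Submodule.smul_mem _ _ h
      rcases hy with ⟨x, rfl⟩ | ⟨hyp, w, hw, hyw⟩
      · rcases n with - | n
        · induction x using gen_induction (span_range_derivation R A) with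
          | h0 => simp
          | hadd x y hx hy =>
            simp only [map_add, Submodule.coe_add, mul_add]
            exact add_mem (hx fun h => by rw [← Algebra.smul_def]; exact Submodule.smul_mem _ _ h)
              (hy fun h => by rw [← Algebra.smul_def]; exact Submodule.smul_mem _ _ h)
          | hgen b₀ b =>
            refine Submodule.subset_span (Or.inl ⟨DeRham.gen (D R A) p (c * b₀) b, ?_⟩)
            simp only [psi_gen_coe hψ, map_mul, mul_assoc, monomial_zero_left]
        · refine Submodule.subset_span (Or.inr ⟨hmem (ψ p x).2, n + 1, by omega, ?_⟩)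
          rw [lieX_algebraMap_mul, eulX_monomial, (lieX_psi hψ p x).1, mul_zero, add_zero, map_nsmul, smul_mul_assoc]
      · refine Submodule.subset_span (Or.inr ⟨hmem hyp, n + w, by omega, ?_⟩)
        rw [lieX_algebraMap_mul, eulX_monomial, hyw, mul_smul_comm, add_smul, map_nsmul, smul_mul_assoc]

include hψ in
theorem mem_wSpan (p : ℕ) (y : ExteriorAlgebra A[X] Ω[A[X]⁄R])
    (hy : y ∈ ExteriorAlgebra.exteriorPower A[X] p Ω[A[X]⁄R]) : y ∈ wSpan R A ψ p := by
  induction p generalizing y with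
  | zero =>
    rw [show ExteriorAlgebra.exteriorPower A[X] 0 Ω[A[X]⁄R] = 1 from pow_zero _] at hy
    obtain ⟨f, rfl⟩ := Submodule.mem_one.mp hy
    rw [← mul_one (algebraMap _ _ f)]
    refine algebraMap_mul_mem_wSpan hψ 0 f (Submodule.subset_span (Or.inl ⟨DeRham.gen (D R A) 0 1 Fin.elim0, ?_⟩))
    simp [psi_gen_coe hψ]
  | succ p ih =>
    rw [show ExteriorAlgebra.exteriorPower A[X] (p + 1) Ω[A[X]⁄R] =
      LinearMap.range (ExteriorAlgebra.ι A[X]) * ExteriorAlgebra.exteriorPower A[X] p Ω[A[X]⁄R] from pow_succ' _ _] at hy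
    induction hy using Submodule.mul_induction_on' with
    | add a _ b _ ha hb => exact add_mem ha hb
    | mem_mul_mem m hm y hy =>
      obtain ⟨m, rfl⟩ := hm
      have hm' : m ∈ Submodule.span A[X] (Set.range (D R A[X])) := by
        rw [span_range_derivation]; trivial
      induction hm' using Submodule.span_induction generalizing y with
      | zero => simp
      | add a b _ _ ha hb => rw [map_add, add_mul]; exact add_mem (ha y hy) (hb y hy)
      | smul a z _ hz =>
        rw [map_smul, Algebra.smul_def, mul_assoc]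
        exact algebraMap_mul_mem_wSpan hψ _ a (hz y hy)
      | mem z hz =>
        obtain ⟨f, rfl⟩ := hz
        induction f using Polynomial.induction_on' with
        | add f g hf hg => rw [map_add, map_add, add_mul]; exact add_mem hf hg
        | monomial n c =>
          have h := ι_mul_mem_wSpan hψ p c (ih y hy)
          rw [← C_mul_X_pow_eq_monomial, Derivation.leibniz, Derivation.leibniz_pow, map_add, add_mul, map_smul,
            map_nsmul, map_smul, map_smul]
          simp only [Algebra.smul_def (R := A[X]) (A := ExteriorAlgebra A[X] Ω[A[X]⁄R]), smul_mul_assoc, mul_smul_comm,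
            mul_assoc]
          refine add_mem ?_ ?_ <;> first
            | exact algebraMap_mul_mem_wSpan hψ _ _ h.1
            | exact algebraMap_mul_mem_wSpan hψ _ _ (nsmul_mem (algebraMap_mul_mem_wSpan hψ _ _ h.2) _)
            | exact nsmul_mem (algebraMap_mul_mem_wSpan hψ _ _ (algebraMap_mul_mem_wSpan hψ _ _ h.2)) _

variable [Algebra ℚ R]

theorem isUnit_natCast {w : ℕ} (hw : 1 ≤ w) : IsUnit (w : R) := by
  have h : IsUnit (w : ℚ) := isUnit_iff_ne_zero.2 (Nat.cast_ne_zero.2 (by omega))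
  simpa using h.map (algebraMap ℚ R)

theorem exists_dR_eq_of_aeval (p : ℕ) (z : ExteriorAlgebra A[X] Ω[A[X]⁄R])
    (hz : z ∈ ExteriorAlgebra.exteriorPower A[X] p Ω[A[X]⁄R]) (hdz : DeRham.dR R A[X] z = 0)
    (s : Multiset ℕ) (hs1 : ∀ w ∈ s, 1 ≤ w)
    (hs : aeval (lieX R A) (s.map fun w : ℕ => (X : R[X]) - C (w : R)).prod z = 0) :
    (p = 0 → z = 0) ∧
      ∀ q, p = q + 1 → ∃ θ ∈ ExteriorAlgebra.exteriorPower A[X] q Ω[A[X]⁄R], DeRham.dR R A[X] θ = z := by
  induction s using Multiset.induction generalizing z with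
  | empty =>
    rw [Multiset.map_zero, Multiset.prod_zero, map_one, Module.End.one_apply] at hs
    subst hs
    exact ⟨fun _ => rfl, fun q _ => ⟨0, zero_mem _, map_zero _⟩⟩
  | cons w s ih =>
    rw [Multiset.map_cons, Multiset.prod_cons, mul_comm, map_mul, Module.End.mul_apply] at hs
    have hlie : lieX R A z = DeRham.dR R A[X] (contrX R A z) := by simp [lieX, hdz]
    have hη : aeval (lieX R A) ((X : R[X]) - C (w : R)) z = lieX R A z - (w : R) • z := by
      simp only [map_sub, aeval_X, aeval_C, LinearMap.sub_apply, Module.algebraMap_end_apply]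
    rw [hη] at hs
    have hwz : (w : R) • z ∈ ExteriorAlgebra.exteriorPower A[X] p Ω[A[X]⁄R] := by
      rw [← IsScalarTower.algebraMap_smul A[X] (w : R) z]; exact Submodule.smul_mem _ _ hz
    obtain ⟨u, hu⟩ := isUnit_natCast (R := R) (hs1 w (Multiset.mem_cons_self w s))
    have hlmem : lieX R A z ∈ ExteriorAlgebra.exteriorPower A[X] p Ω[A[X]⁄R] := by
      rcases p with - | q
      · have hc : contrX R A z = 0 := by
          rw [show ExteriorAlgebra.exteriorPower A[X] 0 Ω[A[X]⁄R] = 1 from pow_zero _] at hz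
          obtain ⟨r, rfl⟩ := Submodule.mem_one.mp hz
          exact contrX_algebraMap R A r
        rw [hlie, hc, map_zero]
        exact zero_mem _
      · rw [hlie]; exact DeRham.dR_mem R _ q _ (contrX_mem R A (q + 1) z hz)
    have hIH := ih (lieX R A z - (w : R) • z) (sub_mem hlmem hwz)
      (by rw [map_sub, map_smul, hlie, DeRham.dR_dR, hdz, smul_zero, sub_zero])
      (fun v hv => hs1 v (Multiset.mem_cons_of_mem hv)) hs
    refine ⟨fun hp => ?_, fun q hq => ?_⟩
    · subst hp
      have hc : contrX R A z = 0 := by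
        rw [show ExteriorAlgebra.exteriorPower A[X] 0 Ω[A[X]⁄R] = 1 from pow_zero _] at hz
        obtain ⟨r, rfl⟩ := Submodule.mem_one.mp hz
        exact contrX_algebraMap R A r
      have := hIH.1 rfl
      rw [hlie, hc, map_zero, zero_sub, neg_eq_zero, ← hu, ← Units.smul_def, smul_eq_zero_iff_eq] at this
      exact this
    · subst hq
      obtain ⟨θ, hθ, hθ'⟩ := hIH.2 q rfl
      refine ⟨(↑u⁻¹ : R) • (contrX R A z - θ), ?_, ?_⟩
      · rw [← IsScalarTower.algebraMap_smul A[X] (↑u⁻¹ : R) (contrX R A z - θ)]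
        exact Submodule.smul_mem _ _ (sub_mem (contrX_mem R A (q + 1) z hz) hθ)
      · rw [map_smul, map_sub, hθ', ← hlie, sub_sub_cancel, smul_smul, ← hu, Units.inv_mul, one_smul]

include hψ in
theorem poincare_polynomial
    (d : ∀ p : ℕ, ↥(⋀[A]^p (Ω[A⁄R])) →ₗ[R] ↥(⋀[A]^(p + 1) (Ω[A⁄R])))
    (hd : DeRham.IsDiff (D R A) d)
    (d' : ∀ p : ℕ, ↥(⋀[A[X]]^p (Ω[A[X]⁄R])) →ₗ[R] ↥(⋀[A[X]]^(p + 1) (Ω[A[X]⁄R])))
    (hd' : DeRham.IsDiff (D R A[X]) d')
    (hcomm : ∀ (p : ℕ) (x : ↥(⋀[A]^p (Ω[A⁄R]))), ψ (p + 1) (d p x) = d' p (ψ p x)) (i : ℕ) :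
    (∀ y ∈ DeRham.cocycles d' i, ∃ x ∈ DeRham.cocycles d i, y - ψ i x ∈ DeRham.coboundaries d' i) ∧
      (∀ x ∈ DeRham.cocycles d i, ψ i x ∈ DeRham.coboundaries d' i → x ∈ DeRham.coboundaries d i) := by
  classical
  obtain ⟨dK, hdK, hdKc⟩ := exists_isDiff_kaehler R A[X]
  have hd'K : ∀ p x, d' p x = dK p x := fun p x => DFunLike.congr_fun
    (ext_gen (span_range_derivation R A[X]) (f := (d' p).toAddMonoidHom) (g := (dK p).toAddMonoidHom)
      fun b₀ b => (hd'.1 p b₀ b).trans (hdK.1 p b₀ b).symm) x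
  have hd'c : ∀ p x, ((d' p x : ↥(⋀[A[X]]^(p + 1) Ω[A[X]⁄R])) : ExteriorAlgebra A[X] Ω[A[X]⁄R]) =
      DeRham.dR R A[X] (x : ExteriorAlgebra A[X] Ω[A[X]⁄R]) := fun p x => by rw [hd'K, hdKc]
  -- the retraction
  letI : Algebra A[X] A := (aeval (0 : A) : A[X] →ₐ[A] A).toRingHom.toAlgebra
  haveI : IsScalarTower R A[X] A := IsScalarTower.of_algebraMap_eq fun r => by
    show _ = aeval (0 : A) (algebraMap R A[X] r)
    simp
  obtain ⟨ρ, hρ⟩ := exists_isCxMap (D R A[X]) (D R A) (KaehlerDifferential.map R R A[X] A)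
    (fun a => KaehlerDifferential.map_D R R A[X] A a)
  have hρψ : ∀ p x, ρ p (ψ p x) = x := fun p x => by
    refine DFunLike.congr_fun (f := (ρ p).comp (ψ p)) (g := AddMonoidHom.id _)
      (ext_gen (span_range_derivation R A) fun b₀ b => ?_) x
    rw [AddMonoidHom.comp_apply, hψ, hρ, AddMonoidHom.id_apply]
    have e : ∀ a : A, algebraMap A[X] A (algebraMap A A[X] a) = a := fun a => by
      show aeval (0 : A) (algebraMap A A[X] a) = a
      simp
    simp only [e]
  have hρd := fun p (x : ↥(⋀[A[X]]^p Ω[A[X]⁄R])) => comm_of_isRule (span_range_derivation R A[X]) hd'.1 hd.1 hρ p x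
  refine ⟨fun y hy => ?_, fun x hx hxb => ?_⟩
  · have hdy : d' i y = 0 := hy
    have hy' : DeRham.dR R A[X] (y : ExteriorAlgebra A[X] Ω[A[X]⁄R]) = 0 := by rw [← hd'c, hdy]; rfl
    obtain ⟨x, z, s, hz, hs1, hs, hyxz⟩ : ∃ (x : ↥(⋀[A]^i Ω[A⁄R])) (z : ExteriorAlgebra A[X] Ω[A[X]⁄R]) (s : Multiset ℕ),
        z ∈ ExteriorAlgebra.exteriorPower A[X] i Ω[A[X]⁄R] ∧ (∀ w ∈ s, 1 ≤ w) ∧
        aeval (lieX R A) (s.map fun w : ℕ => (X : R[X]) - C (w : R)).prod z = 0 ∧
        (y : ExteriorAlgebra A[X] Ω[A[X]⁄R]) = (ψ i x : ExteriorAlgebra A[X] Ω[A[X]⁄R]) + z := by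
      have hyw := mem_wSpan hψ i _ y.2
      clear hdy hy hy'
      generalize (y : ExteriorAlgebra A[X] Ω[A[X]⁄R]) = v at hyw ⊢
      induction hyw using Submodule.span_induction with
      | mem v hv =>
        rcases hv with ⟨x, rfl⟩ | ⟨hvp, w, hw, hvw⟩
        · exact ⟨x, 0, 0, zero_mem _, by simp, by simp, by simp⟩
        · refine ⟨0, v, {w}, hvp, by simpa using hw, ?_, by simp⟩
          simp [map_sub, aeval_X, aeval_C, Module.algebraMap_end_apply, hvw, Nat.cast_smul_eq_nsmul]
      | zero => exact ⟨0, 0, 0, zero_mem _, by simp, by simp, by simp⟩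
      | add u v _ _ hu hv =>
        obtain ⟨x, z, s, hz, hs1, hs, hu⟩ := hu
        obtain ⟨x', z', t, hz', ht1, ht, hv⟩ := hv
        refine ⟨x + x', z + z', s + t, add_mem hz hz', fun w hw => (Multiset.mem_add.mp hw).elim (hs1 w) (ht1 w), ?_, ?_⟩
        · rw [Multiset.map_add, Multiset.prod_add, map_add]
          nth_rw 1 [mul_comm]
          rw [map_mul, map_mul, Module.End.mul_apply, Module.End.mul_apply, hs, ht]
          simp
        · rw [hu, hv, map_add, Submodule.coe_add]; abel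
      | smul r u _ hu =>
        obtain ⟨x, z, s, hz, hs1, hs, hu⟩ := hu
        refine ⟨algebraMap R A r • x, r • z, s, ?_, hs1, by rw [map_smul, hs, smul_zero], ?_⟩
        · rw [← IsScalarTower.algebraMap_smul A[X] r z]; exact Submodule.smul_mem _ _ hz
        · have e : ∀ x : ↥(⋀[A]^i Ω[A⁄R]), ψ i (algebraMap R A r • x) = algebraMap R A[X] r • ψ i x := fun x => by
            induction x using gen_induction (span_range_derivation R A) with
            | h0 => simp
            | hadd a b ha hb => rw [smul_add, map_add, ha, hb, map_add, smul_add]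
            | hgen b₀ b =>
              have h1 : algebraMap R A r • DeRham.gen (D R A) i b₀ b = DeRham.gen (D R A) i (algebraMap R A r * b₀) b :=
                smul_smul _ _ _
              rw [h1, hψ, hψ, map_mul, ← IsScalarTower.algebraMap_apply]
              exact (smul_smul _ _ _).symm
          rw [hu, smul_add, e, Submodule.coe_smul, IsScalarTower.algebraMap_smul]
    let F := (s.map fun w : ℕ => (X : R[X]) - C (w : R)).prod
    have hF0 : IsUnit (F.eval 0) := by
      rw [eval_multiset_prod, Multiset.map_map]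
      refine (IsUnit.submonoid R).multiset_prod_mem _ fun a ha => ?_
      obtain ⟨w, hw, rfl⟩ := Multiset.mem_map.1 ha
      show IsUnit _
      simpa using (isUnit_natCast (R := R) (hs1 w hw)).neg
    have hdx : d i x = 0 := by
      have h1 : DeRham.dR R A[X] (ψ i x : ExteriorAlgebra A[X] Ω[A[X]⁄R]) = -DeRham.dR R A[X] z := by
        rw [eq_neg_iff_add_eq_zero, ← map_add, ← hyxz, hy']
      have h2 : ∀ f : R[X], aeval (lieX R A) f (ψ (i + 1) (d i x) : ExteriorAlgebra A[X] Ω[A[X]⁄R]) =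
          f.eval 0 • (ψ (i + 1) (d i x) : ExteriorAlgebra A[X] Ω[A[X]⁄R]) := fun f => by
        induction f using Polynomial.induction_on' with
        | add f g hf hg => rw [map_add, LinearMap.add_apply, hf, hg, eval_add, add_smul]
        | monomial n c =>
          rcases n with - | n
          · simp [Module.algebraMap_end_apply]
          · rw [← monomial_mul_X, map_mul, aeval_X, Module.End.mul_apply, (lieX_psi hψ _ _).1, map_zero]
            simp
      have h4 := h2 F
      rw [hcomm, hd'c, h1, map_neg, ← dR_aeval_lieX, hs, map_zero, neg_zero, ← h1, ← hd'c, ← hcomm] at h4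
      have h3 : ψ (i + 1) (d i x) = 0 := Subtype.ext ((hF0.smul_eq_zero).1 h4.symm)
      rw [← hρψ (i + 1) (d i x), h3, map_zero]
    have hdz : DeRham.dR R A[X] z = 0 := by
      have h1 := congrArg (DeRham.dR R A[X]) hyxz
      rw [hy', map_add, ← hd'c, ← hcomm, hdx, map_zero] at h1
      simpa using h1.symm
    refine ⟨x, hdx, ?_⟩
    have hkey := exists_dR_eq_of_aeval i z hz hdz s hs1 hs
    cases i with
    | zero =>
      refine (Submodule.mem_bot R).2 (Subtype.ext ?_)
      show (y : ExteriorAlgebra A[X] Ω[A[X]⁄R]) - _ = 0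
      rw [hyxz, hkey.1 rfl]
      simp
    | succ q =>
      obtain ⟨θ, hθ, hθ'⟩ := hkey.2 q rfl
      refine ⟨⟨θ, hθ⟩, Subtype.ext ?_⟩
      rw [hd'c]
      show DeRham.dR R A[X] θ = (y : ExteriorAlgebra A[X] Ω[A[X]⁄R]) - _
      rw [hθ', hyxz, add_sub_cancel_left]
  · cases i with
    | zero =>
      have h : ψ 0 x = 0 := (Submodule.mem_bot R).1 hxb
      exact (Submodule.mem_bot R).2 (by rw [← hρψ 0 x, h, map_zero])
    | succ q =>
      obtain ⟨η, hη⟩ := hxb
      exact ⟨ρ q η, by rw [← hρd q η, hη, hρψ]⟩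

end Groth.Agent.DeRhamH7
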