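import Groth.Agent.Lib.DeRhamH7.Gen
import Mathlib.LinearAlgebra.ExteriorAlgebra.Grading
import Mathlib.RingTheory.Kaehler.TensorProduct
import Mathlib.RingTheory.IsTensorProduct

/-!
# Exterior powers commute with base change; base change of forms
-/

set_option autoImplicit false
set_option linter.style.haveILetI false
universe u

open TensorProduct

namespace Groth.Agent.DeRhamH7

variable (A B : Type u) [CommRing A] [CommRing B] [Algebra A B] (M : Type u) [AddCommGroup M] [Module A M]

/-- The wedge over `B` of elements `1 ⊗ mᵢ`. -/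
noncomputable def bcAlt (p : ℕ) : M [⋀^Fin p]→ₗ[A] ↥(⋀[B]^p (B ⊗[A] M)) :=
  { toMultilinearMap := ((exteriorPower.ιMulti B p (M := B ⊗[A] M)).toMultilinearMap.restrictScalars A).compLinearMap
      fun _ => TensorProduct.mk A B M 1
    map_eq_zero_of_eq' := fun _ _ _ h hij =>
      (exteriorPower.ιMulti B p (M := B ⊗[A] M)).map_eq_zero_of_eq _ (congrArg (TensorProduct.mk A B M 1) h) hij }

/-- The comparison map. -/
noncomputable def bcMap (p : ℕ) : B ⊗[A] ↥(⋀[A]^p M) →ₗ[B] ↥(⋀[B]^p (B ⊗[A] M)) :=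
  LinearMap.liftBaseChange B (exteriorPower.alternatingMapLinearEquiv (bcAlt A B M p))

theorem bcMap_tmul (p : ℕ) (b : B) (m : Fin p → M) :
    bcMap A B M p (b ⊗ₜ exteriorPower.ιMulti A p m) = b • exteriorPower.ιMulti B p (fun i => (1 : B) ⊗ₜ[A] m i) := by
  rw [bcMap, LinearMap.liftBaseChange_tmul, exteriorPower.alternatingMapLinearEquiv_apply_ιMulti]
  rfl

theorem bcMap_injective (p : ℕ) : Function.Injective (bcMap A B M p) := by
  classical
  let l : B ⊗[A] M →ₗ[B] B ⊗[A] ExteriorAlgebra A M := (ExteriorAlgebra.ι A).baseChange B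
  have hswap : ∀ x y, l x * l y + l y * l x = 0 := by
    intro x y
    induction x using TensorProduct.induction_on with
    | zero => simp
    | tmul b m =>
      induction y using TensorProduct.induction_on with
      | zero => simp
      | tmul c n =>
        simp only [l, LinearMap.baseChange_tmul, Algebra.TensorProduct.tmul_mul_tmul]
        rw [mul_comm c b, ← tmul_add, ExteriorAlgebra.ι_add_mul_swap, tmul_zero]
      | add u v hu hv =>
        rw [map_add, mul_add, add_mul]
        rw [show ∀ a b c d : B ⊗[A] ExteriorAlgebra A M, a + b + (c + d) = (a + c) + (b + d) from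
          fun a b c d => add_add_add_comm a b c d, hu, hv, add_zero]
    | add u v hu hv =>
      rw [map_add, add_mul, mul_add]
      rw [show ∀ a b c d : B ⊗[A] ExteriorAlgebra A M, a + b + (c + d) = (a + c) + (b + d) from
        fun a b c d => add_add_add_comm a b c d, hu, hv, add_zero]
  have hsq : ∀ x, l x * l x = 0 := by
    intro x
    induction x using TensorProduct.induction_on with
    | zero => simp
    | tmul b m =>
      simp only [l, LinearMap.baseChange_tmul, Algebra.TensorProduct.tmul_mul_tmul, ExteriorAlgebra.ι_sq_zero,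
        tmul_zero]
    | add u v hu hv => rw [map_add, mul_add, add_mul, add_mul, hu, hv, zero_add, add_zero, add_comm, hswap]
  let Γ := ExteriorAlgebra.lift B ⟨l, hsq⟩
  let retr : ExteriorAlgebra A M →ₗ[A] ↥(⋀[A]^p M) :=
    DirectSum.component A ℕ (fun i => ↥(⋀[A]^i M)) p ∘ₗ
      (DirectSum.decomposeLinearEquiv (fun i : ℕ => ⋀[A]^i M)).toLinearMap
  have hretr : ∀ x : ↥(⋀[A]^p M), retr x = x := fun x => by
    show (DirectSum.decomposeLinearEquiv (fun i : ℕ => ⋀[A]^i M) (x : ExteriorAlgebra A M)) p = x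
    rw [DirectSum.decomposeLinearEquiv_apply, DirectSum.decompose_coe, DirectSum.of_eq_same]
  let inv : ↥(⋀[B]^p (B ⊗[A] M)) →ₗ[B] B ⊗[A] ↥(⋀[A]^p M) :=
    retr.baseChange B ∘ₗ Γ.toLinearMap ∘ₗ Submodule.subtype _
  have key : inv ∘ₗ bcMap A B M p = LinearMap.id := by
    refine LinearMap.ext fun z => ?_
    induction z using TensorProduct.induction_on with
    | zero => simp
    | add u v hu hv => rw [map_add, hu, hv, map_add]
    | tmul b x =>
      have hx : x ∈ Submodule.span A (Set.range (exteriorPower.ιMulti A p (M := M))) := by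
        rw [exteriorPower.ιMulti_span]; exact Submodule.mem_top
      induction hx using Submodule.span_induction generalizing b with
      | zero => simp
      | add u v _ _ hu hv => rw [tmul_add, map_add, hu b, hv b, map_add]
      | smul a x _ hx => rw [← smul_tmul, hx]
      | mem x hx =>
        obtain ⟨m, rfl⟩ := hx
        rw [LinearMap.comp_apply, bcMap_tmul, map_smul, LinearMap.id_apply]
        have h1 : Γ (ExteriorAlgebra.ιMulti B p fun i => (1 : B) ⊗ₜ[A] m i) =
            (1 : B) ⊗ₜ[A] ExteriorAlgebra.ιMulti A p m := by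
          rw [ExteriorAlgebra.ιMulti_apply, ExteriorAlgebra.ιMulti_apply, map_list_prod, List.map_ofFn,
            ← Algebra.TensorProduct.includeRight_apply (R := A) (A := B), map_list_prod, List.map_ofFn]
          congr 2
          funext i
          show Γ (ExteriorAlgebra.ι B ((1 : B) ⊗ₜ[A] m i)) = _
          rw [ExteriorAlgebra.lift_ι_apply]
          rfl
        show b • (retr.baseChange B (Γ (ExteriorAlgebra.ιMulti B p fun i => (1 : B) ⊗ₜ[A] m i))) = _
        rw [h1, LinearMap.baseChange_tmul, ← exteriorPower.ιMulti_apply_coe, hretr, smul_tmul', smul_eq_mul, mul_one]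
  exact Function.LeftInverse.injective (g := inv) fun z => LinearMap.congr_fun key z

theorem bcMap_surjective (p : ℕ) : Function.Surjective (bcMap A B M p) := by
  have hs : Submodule.span B (Set.range fun m : M => (1 : B) ⊗ₜ[A] m) = ⊤ := by
    refine eq_top_iff.2 fun z _ => ?_
    induction z using TensorProduct.induction_on with
    | zero => exact zero_mem _
    | tmul b m =>
      rw [show b ⊗ₜ[A] m = b • ((1 : B) ⊗ₜ[A] m) by rw [smul_tmul', smul_eq_mul, mul_one]]
      exact Submodule.smul_mem _ _ (Submodule.subset_span ⟨m, rfl⟩)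
    | add u v hu hv => exact add_mem (hu trivial) (hv trivial)
  rw [← LinearMap.range_eq_top, eq_top_iff, ← exteriorPower.ιMulti_span_of_span B p (B ⊗[A] M) hs,
    Submodule.span_le]
  rintro _ ⟨v, hv, rfl⟩
  choose m hm using fun i => hv ⟨i, rfl⟩
  refine ⟨(1 : B) ⊗ₜ exteriorPower.ιMulti A p m, ?_⟩
  rw [bcMap_tmul, one_smul]
  exact congrArg _ (funext hm)

/-- Exterior powers commute with base change. -/
noncomputable def bcEquiv (p : ℕ) : B ⊗[A] ↥(⋀[A]^p M) ≃ₗ[B] ↥(⋀[B]^p (B ⊗[A] M)) :=
  LinearEquiv.ofBijective (bcMap A B M p) ⟨bcMap_injective A B M p, bcMap_surjective A B M p⟩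

open KaehlerDifferential in
theorem bijective_baseChange_forms {R S A B : Type u} [CommRing R] [CommRing S] [CommRing A] [CommRing B]
    [Algebra R S] [Algebra R A] [Algebra R B] [Algebra A B] [Algebra S B]
    [IsScalarTower R A B] [IsScalarTower R S B] [Algebra.IsPushout R S A B]
    (ψ : ∀ p : ℕ, ↥(⋀[A]^p (Ω[A⁄R])) →+ ↥(⋀[B]^p (Ω[B⁄S])))
    (hψ : DeRham.IsCxMap (D R A) (D S B) (algebraMap A B) ψ)
    (p : ℕ) (Φ : S ⊗[R] ↥(⋀[A]^p (Ω[A⁄R])) →+ ↥(⋀[B]^p (Ω[B⁄S])))
    (hΦ : ∀ (s : S) (x : ↥(⋀[A]^p (Ω[A⁄R]))), Φ (s ⊗ₜ[R] x) = s • ψ p x) :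
    Function.Bijective Φ := by
  let e₁ := bcEquiv A B Ω[A⁄R] p
  let E := tensorKaehlerEquiv R S A B
  let F := (exteriorPower.map p E.toLinearMap)
  have hF : Function.Bijective F := by
    refine Function.bijective_iff_has_inverse.2 ⟨exteriorPower.map p E.symm.toLinearMap, fun x => ?_, fun x => ?_⟩
    · show (exteriorPower.map p E.symm.toLinearMap ∘ₗ F) x = x
      rw [← exteriorPower.map_comp, E.symm_comp, exteriorPower.map_id]; rfl
    · show (F ∘ₗ exteriorPower.map p E.symm.toLinearMap) x = x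
      rw [← exteriorPower.map_comp, E.comp_symm, exteriorPower.map_id]; rfl
  let C := Algebra.IsPushout.cancelBaseChange R S A B ↥(⋀[A]^p Ω[A⁄R])
  have hψ1 : ψ p = (F.restrictScalars A ∘ₗ e₁.toLinearMap.restrictScalars A ∘ₗ
      TensorProduct.mk A B ↥(⋀[A]^p Ω[A⁄R]) 1).toAddMonoidHom := by
    refine ext_gen (span_range_derivation R A) fun b₀ b => ?_
    rw [hψ]
    show _ = F (e₁ ((1 : B) ⊗ₜ[A] (b₀ • exteriorPower.ιMulti A p fun i => D R A (b i))))
    rw [tmul_smul, smul_tmul', ← Algebra.algebraMap_eq_smul_one]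
    show _ = F (bcMap A B _ p _)
    rw [bcMap_tmul, map_smul, exteriorPower.map_apply_ιMulti]
    refine congrArg (fun z => algebraMap A B b₀ • exteriorPower.ιMulti B p z) (funext fun i => ?_)
    show D S B (algebraMap A B (b i)) = E ((1 : B) ⊗ₜ D R A (b i))
    rw [tensorKaehlerEquiv_tmul_D, one_smul]
  have hΦ' : ∀ z, Φ z = F (e₁ (C.symm z)) := fun z => by
    induction z using TensorProduct.induction_on with
    | zero => simp
    | add u v hu hv => rw [map_add, hu, hv, map_add, map_add, map_add]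
    | tmul s x =>
      rw [hΦ, hψ1]
      show s • F (e₁ ((1 : B) ⊗ₜ[A] x)) = _
      rw [show s ⊗ₜ[R] x = s • ((1 : S) ⊗ₜ[R] x) by rw [smul_tmul', smul_eq_mul, mul_one], map_smul,
        show C.symm ((1 : S) ⊗ₜ[R] x) = (1 : B) ⊗ₜ[A] x from
          C.symm_apply_eq.2 (Algebra.IsPushout.cancelBaseChange_tmul R S A B _ x).symm,
        ← algebraMap_smul B s ((1 : B) ⊗ₜ[A] x), map_smul, map_smul, algebraMap_smul]
  rw [show ⇑Φ = F ∘ e₁ ∘ C.symm from funext hΦ']
  exact hF.comp (e₁.bijective.comp C.symm.bijective)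

end Groth.Agent.DeRhamH7
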