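import Groth.Prelude.Def_DeRham2
import Groth.Agent.Lib.PushUnit3.Basic
import Groth.Agent.Lib.ResDesc11.Basic
import Groth.Agent.Lib.PinchH7.Mod
import Groth.Agent.Lib.Omega12.SmoothRank
import Groth.Agent.Lib.Omega12.Universal
import Groth.Agent.Lib.FiniteMor15.FibreDim
import Groth.Agent.Lib.TopDimLib.Basic
import Mathlib.LinearAlgebra.ExteriorPower.Basis

/-!
# The terms of the de Rham complex of a smooth scheme over a field

Exterior powers of a module with local bases are locally free, and vanish above the rank.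
-/

set_option autoImplicit false
set_option linter.style.haveILetI false
set_option backward.isDefEq.respectTransparency false
set_option backward.isDefEq.respectTransparency.types false

universe u

open CategoryTheory CategoryTheory.Limits AlgebraicGeometry Opposite TopologicalSpace exteriorPower

noncomputable section

namespace Groth.Agent.DeRhamH7

open Groth.Agent.P1Split (IsBas isBas_of_stalk exists_common_section germ_sum_smul mres_sum_smul)

variable {X : Scheme.{u}} {p r : ℕ}

/-- A family which is a basis over all affine opens inside `U` is a basis over all opens inside `U`. -/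
theorem isBas_of_affine {M : X.Modules} {U : X.Opens} {e : Fin r → Γ(M, U)}
    (h : ∀ (V : X.Opens) (hV : V ≤ U), IsAffineOpen V →
      Function.Bijective fun c : Fin r → Γ(X, V) => ∑ i, c i • M1.mres M hV (e i)) :
    IsBas M U e := by
  refine isBas_of_stalk fun x hx => ⟨fun c c' hcc => ?_, fun v => ?_⟩
  · obtain ⟨D, hxD, a, hDU, ha⟩ := exists_common_section hx c
    obtain ⟨D', hxD', a', hD', ha'⟩ := exists_common_section (show x ∈ D from hxD) c'
    have h1 : M.presheaf.germ D' x hxD' (∑ i, M1.ores hD' (a i) • M1.mres M (hD'.trans hDU) (e i)) =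
        M.presheaf.germ D' x hxD' (∑ i, a' i • M1.mres M (hD'.trans hDU) (e i)) := by
      rw [germ_sum_smul, germ_sum_smul]
      simp only [M1.germ_mres, ha']
      refine Eq.trans (Finset.sum_congr rfl fun i _ => ?_) hcc
      exact congrArg (· • (M.presheaf.germ U x hx (e i) : M.presheaf.stalk x))
        ((X.presheaf.germ_res_apply (homOfLE hD') x hxD' (a i)).trans (ha i))
    obtain ⟨Z, hZ, i₁, i₂, hz⟩ := M.presheaf.germ_eq x hxD' hxD' _ _ h1
    obtain ⟨W, hW, hxW, hWZ⟩ := exists_isAffineOpen_mem_and_subset (x := x) (U := Z) hZ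
    replace hz : M1.mres M i₁.le (∑ i, M1.ores hD' (a i) • M1.mres M (hD'.trans hDU) (e i)) =
        M1.mres M i₁.le (∑ i, a' i • M1.mres M (hD'.trans hDU) (e i)) := hz
    replace hz := congrArg (M1.mres M (hWZ : W ≤ Z)) hz
    simp only [mres_sum_smul, M1.mres_mres] at hz
    funext i
    have h2 := congrArg (X.presheaf.germ W x hxW) (congrFun ((h W _ hW).1 hz) i)
    rw [← ha i, ← ha' i, ← X.presheaf.germ_res_apply (homOfLE hD') x hxD' (a i),
      ← X.presheaf.germ_res_apply i₁ x hZ, ← X.presheaf.germ_res_apply i₁ x hZ (a' i),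
      ← X.presheaf.germ_res_apply (homOfLE (hWZ : W ≤ Z)) x hxW, ← X.presheaf.germ_res_apply (homOfLE (hWZ : W ≤ Z)) x hxW
        (X.presheaf.map i₁.op (a' i))]
    exact h2
  · obtain ⟨W, hxW, m, rfl⟩ := M.presheaf.exists_germ_eq v
    obtain ⟨V, hV, hxV, hVW⟩ := exists_isAffineOpen_mem_and_subset (x := x) (U := W ⊓ U) ⟨hxW, hx⟩
    obtain ⟨c, hc⟩ := (h V (fun y hy => (hVW hy).2) hV).2 (M1.mres M (fun y hy => (hVW hy).1) m)
    refine ⟨fun i => X.presheaf.germ V x hxV (c i), ?_⟩
    have hc' := congrArg (M.presheaf.germ V x hxV) hc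
    simp only [germ_sum_smul, M1.germ_mres] at hc'
    exact hc'

/-- The basis of the sections over a smaller open given by a basis of a module. -/
def basOf {E : X.Modules} {D : X.Opens} {e : Fin r → Γ(E, D)} (he : IsBas E D e) {V : X.Opens} (hV : V ≤ D) :
    Module.Basis (Fin r) Γ(X, V) Γ(E, V) :=
  Module.Basis.ofEquivFun (LinearEquiv.ofBijective
    ({ toFun := fun c => ∑ i, c i • M1.mres E hV (e i)
       map_add' := fun c c' => by simp only [Pi.add_apply, add_smul, Finset.sum_add_distrib]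
       map_smul' := fun a c => by simp only [Pi.smul_apply, smul_eq_mul, mul_smul, Finset.smul_sum, RingHom.id_apply] } :
      (Fin r → Γ(X, V)) →ₗ[Γ(X, V)] Γ(E, V))
    (he V hV)).symm

theorem basOf_apply {E : X.Modules} {D : X.Opens} {e : Fin r → Γ(E, D)} (he : IsBas E D e) {V : X.Opens}
    (hV : V ≤ D) (i : Fin r) : basOf he hV i = M1.mres E hV (e i) := by
  rw [basOf, Module.Basis.coe_ofEquivFun, LinearEquiv.symm_symm]
  show ∑ j, ((Pi.single i (1 : Γ(X, V)) : Fin r → Γ(X, V)) j) • M1.mres E hV (e j) = _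
  rw [Finset.sum_eq_single i (fun j _ hj => by rw [Pi.single_eq_of_ne hj, zero_smul]) (by simp),
    Pi.single_eq_same, one_smul]

/-- The exterior power of a module with a basis over `D` has a basis over the affine opens inside `D`. -/
theorem exists_isBas_extPow {E L : X.Modules} (hL : ExtPow.IsExtPow p E L) {D : X.Opens} {e : Fin r → Γ(E, D)}
    (he : IsBas E D e) (W : X.affineOpens) (hW : W.1 ≤ D) :
    ∃ g : Fin (Fintype.card (Set.powersetCard (Fin r) p)) → Γ(L, W.1), IsBas L W.1 g := by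
  classical
  obtain ⟨φ, hφ⟩ : ∃ φ : ∀ U : X.affineOpens, Γ(L, U.1) ≃ₗ[Γ(X, U.1)] ↥(⋀[Γ(X, U.1)]^p Γ(E, U.1)),
      ∀ (U V : X.affineOpens) (h : V.1 ≤ U.1) (e : Fin p → Γ(E, U.1)),
        M1.mres L h ((φ U).symm (ιMulti _ p e)) = (φ V).symm (ιMulti _ p fun j => M1.mres E h (e j)) := hL
  let σ := (Fintype.equivFin (Set.powersetCard (Fin r) p)).symm
  refine ⟨fun j => (φ W).symm (ιMulti_family Γ(X, W.1) p (fun i => M1.mres E hW (e i)) (σ j)),
    isBas_of_affine fun V hV haff => ?_⟩
  let b := (((basOf he (hV.trans hW)).exteriorPower p).map (φ ⟨V, haff⟩).symm).reindex σ.symm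
  have key : ∀ j, M1.mres L hV ((φ W).symm (ιMulti_family Γ(X, W.1) p (fun i => M1.mres E hW (e i)) (σ j))) = b j := by
    intro j
    rw [Module.Basis.reindex_apply, Equiv.symm_symm, Module.Basis.map_apply, exteriorPower.basis_apply,
      ιMulti_family, ιMulti_family, hφ W ⟨V, haff⟩ hV]
    congr 2
    funext a
    show M1.mres E hV (M1.mres E hW _) = basOf he (hV.trans hW) _
    rw [M1.mres_mres, basOf_apply]
  simp only [key]
  convert b.equivFun.symm.bijective using 1
  funext c
  exact (b.equivFun_symm_apply c).symm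

/-- An exterior power of a finite locally free module is finite locally free. -/
theorem isFinLocFree_extPow {E L : X.Modules} (hE : FlatMod.IsFinLocFree E) (hL : ExtPow.IsExtPow p E L) :
    FlatMod.IsFinLocFree L := by
  refine ResDesc11.isFinLocFree_of_isBas fun y => ?_
  obtain ⟨n, D, e, hy, he⟩ := PushUnit3.exists_isBas_nhd' hE y
  obtain ⟨W, hW, hyW, hWD⟩ := exists_isAffineOpen_mem_and_subset (x := y) (U := D) hy
  obtain ⟨g, hg⟩ := exists_isBas_extPow hL he ⟨W, hW⟩ hWD
  exact ⟨_, W, g, hyW, hg⟩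

/-- An exterior power above the rank is zero. -/
theorem isZero_extPow {E L : X.Modules} (hL : ExtPow.IsExtPow p E L)
    (h : ∀ x : X, ∃ (m : ℕ) (D : X.Opens) (e : Fin m → Γ(E, D)), x ∈ D ∧ m < p ∧ IsBas E D e) : IsZero L := by
  refine PinchH7.isZero_of_subsingleton_sections fun V hV => ⟨fun a b => ?_⟩
  choose m D e hx hm he using h
  have hW : ∀ x : V, ∃ W : X.affineOpens, x.1 ∈ W.1 ∧ W.1 ≤ V ⊓ D x.1 := fun x => by
    obtain ⟨W, hW, hxW, hWle⟩ := exists_isAffineOpen_mem_and_subset (x := x.1) (U := V ⊓ D x.1) ⟨x.2, hx _⟩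
    exact ⟨⟨W, hW⟩, hxW, hWle⟩
  choose W hxW hWle using hW
  refine M1.modules_eq_of_locally_eq L V (fun x : V => (W x).1) (fun x => (hWle x).trans inf_le_left)
    (fun y hy => Opens.mem_iSup.2 ⟨⟨y, hy⟩, hxW ⟨y, hy⟩⟩) a b fun x => ?_
  obtain ⟨g, hg⟩ := exists_isBas_extPow hL (he x.1) (W x) ((hWle x).trans inf_le_right)
  haveI : IsEmpty (Set.powersetCard (Fin (m x.1)) p) := ⟨fun S => by
    have h1 : S.1.card ≤ m x.1 := (Finset.card_le_univ S.1).trans_eq (Fintype.card_fin _)
    have h2 := hm x.1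
    have h3 : S.1.card = p := S.2
    omega⟩
  haveI : IsEmpty (Fin (Fintype.card (Set.powersetCard (Fin (m x.1)) p))) := by
    rw [Fintype.card_eq_zero]
    infer_instance
  haveI : Subsingleton Γ(L, (W x).1) := (hg (W x).1 le_rfl).2.subsingleton
  exact Subsingleton.elim _ _

section Field

variable {k : Type u} [Field k] (f : X ⟶ Spec (CommRingCat.of k)) [QuasiSeparated f] [Smooth f]

/-- The differentials of a smooth scheme of dimension at most `n` have bases with at most `n` members. -/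
theorem exists_isBas_omega (n : ℕ) (hn : topologicalKrullDim ↥X ≤ n) (x : X) :
    ∃ (m : ℕ) (D : X.Opens) (e : Fin m → Γ(Omega.sheaf f, D)), x ∈ D ∧ m ≤ n ∧ IsBas (Omega.sheaf f) D e := by
  haveI : Subsingleton (Spec (CommRingCat.of k)) := inferInstanceAs (Subsingleton (PrimeSpectrum k))
  obtain ⟨U, m, hxU, ⟨φ⟩, hd⟩ := Omega12.exists_free_nbhd_smooth f (Omega12.isUniversal_dOmega f) x
  have hb := (P1Split.isBas_coprod (fun _ : Fin m => Coh.structureModule (U : Scheme.{u}))
    (fun _ => M1.one ⊤) fun _ => P1Split.isGen_one ⊤).map_iso φ.symm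
  refine ⟨m, U.ι ''ᵁ ⊤, _, ⟨⟨x, hxU⟩, trivial, rfl⟩, ?_, P1Split.isBas_of_restrict U.ι _ hb⟩
  have : ((m : ℕ) : WithBot ℕ∞) ≤ ((n : ℕ) : WithBot ℕ∞) :=
    hd ▸ (FiniteMor15.fibreDimAt_of_subsingleton f x).trans_le ((TopDimLib.localDim_le x).trans hn)
  exact_mod_cast this

variable (D : DeRhamSh.OmegaCx f)

theorem isQCoh_term (p : ℕ) : Coh.IsQCoh (D.term p) :=
  M2.isQCoh_of_isFinLocFree (isFinLocFree_extPow
    (Omega12.isFinLocFree_receptacle_of_smooth f (Omega12.isUniversal_dOmega f)) (D.isExtPow p))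

theorem isZero_term (n : ℕ) (hn : topologicalKrullDim ↥X ≤ n) (p : ℕ) (hp : n < p) : IsZero (D.term p) :=
  isZero_extPow (D.isExtPow p) fun x => by
    obtain ⟨m, W, e, hx, hm, he⟩ := exists_isBas_omega f n hn x
    exact ⟨m, W, e, hx, hm.trans_lt hp, he⟩

end Field

end Groth.Agent.DeRhamH7
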