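import Groth.Agent.Lib.DeRhamH7.HyperVanish
import Groth.Agent.Lib.DeRhamH7.Terms

/-!
# Vanishing of algebraic de Rham cohomology above dimension plus cohomological dimension
-/

set_option autoImplicit false
set_option linter.style.haveILetI false
set_option backward.isDefEq.respectTransparency false

universe u

open CategoryTheory CategoryTheory.Limits AlgebraicGeometry TopologicalSpace

noncomputable section

namespace Groth.Agent.DeRhamH7

variable {k : Type u} [Field k] {X : Scheme.{u}} (f : X ⟶ Spec (CommRingCat.of k)) [QuasiSeparated f] [Smooth f]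

/-- `H^i_dR` vanishes once every `H^(i-p)(X, F)`, `p ≤ n`, vanishes for quasi-coherent `F`. -/
theorem subsingleton_hdR (n : ℕ) (hn : topologicalKrullDim ↥X ≤ n) (r : ℕ)
    (hcd : ∀ (F : X.Modules), Coh.IsQCoh F → ∀ q : ℕ, r ≤ q → Subsingleton (Coh.HH X F q))
    (D : DeRhamSh.OmegaCx f)
    [HasDerivedCategory.{u} (Sheaf (Opens.grothendieckTopology ↥X) AddCommGrpCat.{u})]
    (i : ℤ) (hi : (n : ℤ) + r ≤ i) :
    Subsingleton (DeRhamSh.HdR D i) := by
  refine subsingleton_HT_of_pieces (CohCx.freeSheaf (Opens.grothendieckTopology X) (⊤ : X.Opens)) D.KZ n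
    (fun m hm => D.K.isZero_extend_X _ m fun j hj => ?_) (fun m hm => ?_) i fun p hp => ?_
  · simp only [ComplexShape.embeddingUpNat_f] at hj
    omega
  · obtain ⟨j, rfl⟩ : ∃ j : ℕ, (j : ℤ) = m := ⟨m.toNat, by omega⟩
    exact IsZero.of_iso ((SheafOfModules.toSheaf X.ringCatSheaf).map_isZero (isZero_term f D n hn j (by omega)))
      (D.K.extendXIso ComplexShape.embeddingUpNat (ComplexShape.embeddingUpNat_f j) ≪≫ D.iso j)
  · obtain ⟨m, hm⟩ : ∃ m : ℕ, (p : ℤ) + m = i := ⟨(i - p).toNat, by omega⟩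
    exact subsingleton_HT_single (D.term p)
      (D.K.extendXIso ComplexShape.embeddingUpNat (ComplexShape.embeddingUpNat_f p) ≪≫ D.iso p) p i m hm
      (hcd _ (isQCoh_term f D p) m (by omega))

end Groth.Agent.DeRhamH7
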