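import Groth.Prelude.Def_E1Deg2
import Mathlib.Algebra.Homology.DerivedCategory.ShortExact
import Mathlib.Algebra.Homology.HomologicalComplexAbelian

/-!
# Vanishing of hypercohomology from the vanishing on the pieces of the stupid filtration
-/

set_option autoImplicit false
set_option linter.style.haveILetI false
set_option backward.isDefEq.respectTransparency false

universe w v u

open CategoryTheory CategoryTheory.Limits CategoryTheory.Pretriangulated

noncomputable section

namespace Groth.Agent.DeRhamH7

section Split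

variable {A : Type u} [Category.{v} A] [Abelian A]

/-- A short complex with zero third term and invertible first map is short exact. -/
theorem shortExact_of_isZero₃ (S : ShortComplex A) (h3 : IsZero S.X₃) [IsIso S.f] : S.ShortExact :=
  ShortComplex.Splitting.shortExact
    { r := inv S.f
      s := 0
      f_r := IsIso.hom_inv_id _
      s_g := h3.eq_of_src _ _
      id := by simp }

/-- A short complex with zero first term and invertible second map is short exact. -/
theorem shortExact_of_isZero₁ (S : ShortComplex A) (h1 : IsZero S.X₁) [IsIso S.g] : S.ShortExact :=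
  ShortComplex.Splitting.shortExact
    { r := 0
      s := inv S.g
      f_r := h1.eq_of_src _ _
      s_g := IsIso.inv_hom_id _
      id := by simp }

variable (K : CochainComplex A ℤ) (i : ℤ)

theorem sigmaGEιSucc_comp_π : E1Deg.sigmaGEιSucc K i ≫ E1Deg.sigmaGEπ K i = 0 := by
  refine HomologicalComplex.to_single_hom_ext ?_
  refine (K.isZero_stupidTrunc_X (E1Deg.emb (i + 1)) i fun n hn => ?_).eq_of_src _ _
  simp only [ComplexShape.embeddingUpIntGE_f] at hn
  omega

/-- The step of the stupid filtration as a short complex of complexes. -/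
abbrev stepSC : ShortComplex (CochainComplex A ℤ) :=
  ShortComplex.mk (E1Deg.sigmaGEιSucc K i) (E1Deg.sigmaGEπ K i) (sigmaGEιSucc_comp_π K i)

theorem shortExact_stepSC : (stepSC K i).ShortExact := by
  refine HomologicalComplex.shortExact_of_degreewise_shortExact _ fun m => ?_
  by_cases hm : m = i
  · subst hm
    have h1 : IsZero ((E1Deg.sigmaGE K (m + 1)).X m) :=
      K.isZero_stupidTrunc_X (E1Deg.emb (m + 1)) m fun n hn => by
        simp only [ComplexShape.embeddingUpIntGE_f] at hn
        omega
    haveI : IsIso ((stepSC K m).map (HomologicalComplex.eval A (ComplexShape.up ℤ) m)).g := by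
      change IsIso ((E1Deg.sigmaGEπ K m).f m)
      rw [E1Deg.sigmaGEπ_f]
      infer_instance
    exact shortExact_of_isZero₁ _ h1
  · have h3 : IsZero (((HomologicalComplex.single A (ComplexShape.up ℤ) i).obj (K.X i)).X m) :=
      HomologicalComplex.isZero_single_obj_X _ _ _ _ hm
    haveI : IsIso ((stepSC K i).map (HomologicalComplex.eval A (ComplexShape.up ℤ) m)).f := by
      change IsIso ((E1Deg.sigmaGEιSucc K i).f m)
      by_cases hn : ∃ n : ℕ, (E1Deg.emb (i + 1)).f n = m
      · obtain ⟨n, hn⟩ := hn
        rw [E1Deg.sigmaGEιSucc_f_eq K i hn]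
        infer_instance
      · have hn1 : ∀ n : ℕ, (E1Deg.emb (i + 1)).f n ≠ m := not_exists.1 hn
        have hn0 : ∀ n : ℕ, (E1Deg.emb i).f n ≠ m := by
          intro n hn'
          simp only [ComplexShape.embeddingUpIntGE_f] at hn' hn1
          refine hn1 (n - 1) ?_
          omega
        exact ⟨0, (K.isZero_stupidTrunc_X _ m hn1).eq_of_src _ _, (K.isZero_stupidTrunc_X _ m hn0).eq_of_src _ _⟩
    exact shortExact_of_isZero₃ _ h3

end Split

section HT

variable {A : Type u} [Category.{v} A] [Abelian A] [HasDerivedCategory.{w} A] (T : A)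

theorem subsingleton_HT_of_isZero {K : CochainComplex A ℤ} (hK : IsZero K) (a : ℤ) :
    Subsingleton (E1Deg.HT T K a) := by
  have h : IsZero ((shiftFunctor (DerivedCategory A) a).obj (DerivedCategory.Q.obj K)) :=
    Functor.map_isZero _ (Functor.map_isZero _ hK)
  exact ⟨fun x y => h.eq_of_tgt x y⟩

theorem subsingleton_HT_of_iso {K L : CochainComplex A ℤ} (e : K ≅ L) (a : ℤ) [h : Subsingleton (E1Deg.HT T K a)] :
    Subsingleton (E1Deg.HT T L a) :=
  Function.Injective.subsingleton (f := fun x => E1Deg.HTmap T e.inv a x) (fun x y hxy => by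
    have := congrArg (E1Deg.HTmap T e.hom a) hxy
    simpa [← E1Deg.HTmap_comp, E1Deg.HTmap_id] using this)

/-- Vanishing on the outer terms gives vanishing on the middle term. -/
theorem subsingleton_HT_of_shortExact {S : ShortComplex (CochainComplex A ℤ)} (hS : S.ShortExact) (a : ℤ)
    [h1 : Subsingleton (E1Deg.HT T S.X₁ a)] [h3 : Subsingleton (E1Deg.HT T S.X₃ a)] :
    Subsingleton (E1Deg.HT T S.X₂ a) := by
  have hT := Triangle.shift_distinguished _ (DerivedCategory.triangleOfSES_distinguished hS) a
  refine subsingleton_of_forall_eq 0 fun x => ?_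
  obtain ⟨y, hy⟩ := Triangle.coyoneda_exact₂ _ hT
    (X := (DerivedCategory.singleFunctor A 0).obj T) x (h3.elim _ _)
  rw [hy, show y = 0 from h1.elim _ _]
  exact zero_comp

/-- Hypercohomology of a complex in degrees `0, ..., N` vanishes when it vanishes on each term. -/
theorem subsingleton_HT_of_pieces (K : CochainComplex A ℤ) (N : ℕ) (hlow : ∀ m : ℤ, m < 0 → IsZero (K.X m))
    (hhigh : ∀ m : ℤ, (N : ℤ) < m → IsZero (K.X m)) (a : ℤ)
    (h : ∀ p : ℕ, p ≤ N → Subsingleton
      (E1Deg.HT T ((HomologicalComplex.single A (ComplexShape.up ℤ) (p : ℤ)).obj (K.X (p : ℤ))) a)) :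
    Subsingleton (E1Deg.HT T K a) := by
  have key : ∀ d : ℕ, d ≤ N + 1 → Subsingleton (E1Deg.HT T (E1Deg.sigmaGE K ((N + 1 - d : ℕ) : ℤ)) a) := by
    intro d hd
    induction d with
    | zero =>
      refine subsingleton_HT_of_isZero T ?_ a
      rw [IsZero.iff_id_eq_zero]
      ext m
      by_cases hm : ∃ n : ℕ, (E1Deg.emb ((N + 1 - 0 : ℕ) : ℤ)).f n = m
      · obtain ⟨n, hn⟩ := hm
        refine ((hhigh m ?_).of_iso (K.stupidTruncXIso _ hn)).eq_of_src _ _
        simp only [ComplexShape.embeddingUpIntGE_f] at hn
        omega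
      · exact (K.isZero_stupidTrunc_X _ m (not_exists.1 hm)).eq_of_src _ _
    | succ d ih =>
      have hp : N + 1 - d = (N + 1 - (d + 1)) + 1 := by omega
      haveI h1 : Subsingleton (E1Deg.HT T (stepSC K ((N + 1 - (d + 1) : ℕ) : ℤ)).X₁ a) := by
        have := ih (by omega)
        rw [hp, Nat.cast_add, Nat.cast_one] at this
        exact this
      haveI h3 : Subsingleton (E1Deg.HT T (stepSC K ((N + 1 - (d + 1) : ℕ) : ℤ)).X₃ a) := h _ (by omega)
      exact subsingleton_HT_of_shortExact T (shortExact_stepSC K _) a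
  have h0 := key (N + 1) le_rfl
  rw [Nat.sub_self, Nat.cast_zero] at h0
  haveI := E1Deg.isIso_sigmaGEι K 0 hlow
  haveI := h0
  exact subsingleton_HT_of_iso T (asIso (E1Deg.sigmaGEι K 0)) a

end HT

section Scheme

open AlgebraicGeometry TopologicalSpace

/-- Hypercohomology of a complex with terms sheaves of modules vanishes when their cohomology does. -/
theorem subsingleton_HT_single {X : Scheme.{u}}
    [HasDerivedCategory.{u} (Sheaf (Opens.grothendieckTopology X) AddCommGrpCat.{u})]
    (M : X.Modules) {Y : Sheaf (Opens.grothendieckTopology X) AddCommGrpCat.{u}} (e : Y ≅ Coh.toAb M)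
    (i a : ℤ) (m : ℕ) (h : i + m = a) (hM : Subsingleton (Coh.HH X M m)) :
    Subsingleton (E1Deg.HT (CohCx.freeSheaf (Opens.grothendieckTopology X) (⊤ : X.Opens))
      ((HomologicalComplex.single _ (ComplexShape.up ℤ) i).obj Y) a) :=
  ((E1Deg.HTsingleEquiv _ Y i a m h).trans ((E1Deg.extCongrRight _ e m).trans
    (E1Deg.extCongrLeft (E1Deg.freeSheafIsoConstant (Opens.grothendieckTopology X)
      (CategoryTheory.Limits.isTerminalTop : IsTerminal (⊤ : X.Opens))) _ m))).injective.subsingleton

end Scheme

end Groth.Agent.DeRhamH7
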