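import Mathlib.RingTheory.Kaehler.Polynomial
import Mathlib.Algebra.Polynomial.Derivative
import Mathlib.Algebra.DualNumber
import Mathlib.RingTheory.MvPolynomial.Ideal
import Mathlib.Algebra.Polynomial.AlgebraMap

/-!
# The naive de Rham complex of the node
-/

set_option autoImplicit false
set_option linter.style.haveILetI false
universe u

open KaehlerDifferential

namespace Groth.Agent.DeRhamH7

variable (k : Type u) [Field k]

/-- The coordinate ring of the node. -/
abbrev Node : Type u :=
  MvPolynomial (Fin 2) k ⧸ Ideal.span {(MvPolynomial.X 0 * MvPolynomial.X 1 : MvPolynomial (Fin 2) k)}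

/-- An algebra map out of the node. -/
noncomputable def nodeLift {S : Type u} [CommRing S] [Algebra k S] (x y : S) (h : x * y = 0) : Node k →ₐ[k] S :=
  Ideal.Quotient.liftₐ _ (MvPolynomial.aeval ![x, y]) fun a ha => by
    obtain ⟨c, rfl⟩ := Ideal.mem_span_singleton'.1 ha
    simp [h]

theorem nodeLift_mk {S : Type u} [CommRing S] [Algebra k S] (x y : S) (h : x * y = 0)
    (p : MvPolynomial (Fin 2) k) :
    nodeLift k x y h (Ideal.Quotient.mk _ p) = MvPolynomial.aeval ![x, y] p := rfl

theorem D_branch_eq_zero {x y : Polynomial k} (h : x * y = 0) {P : Node k}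
    (hP : D k (Node k) P = 0) : Polynomial.derivative (nodeLift k x y h P) = 0 := by
  letI : Algebra (Node k) (Polynomial k) := (nodeLift k x y h).toRingHom.toAlgebra
  haveI : IsScalarTower k (Node k) (Polynomial k) :=
    IsScalarTower.of_algebraMap_eq fun r => ((nodeLift k x y h).commutes r).symm
  have h1 : D k (Polynomial k) (nodeLift k x y h P) = 0 := by
    rw [show nodeLift k x y h P = algebraMap (Node k) (Polynomial k) P from rfl,
      ← KaehlerDifferential.map_D k k (Node k) (Polynomial k), hP, map_zero]
  rw [← KaehlerDifferential.polynomialEquiv_D, h1, map_zero]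

theorem coeff_branch (p : MvPolynomial (Fin 2) k) (i : Fin 2) (m : ℕ) :
    (MvPolynomial.aeval (fun j => if j = i then (Polynomial.X : Polynomial k) else 0) p).coeff m =
      p.coeff (Finsupp.single i m) := by
  classical
  induction p using MvPolynomial.induction_on' with
  | monomial d a =>
    rw [MvPolynomial.aeval_monomial, MvPolynomial.coeff_monomial, ← Polynomial.C_eq_algebraMap]
    rw [Polynomial.coeff_C_mul, Finsupp.prod_fintype _ _ (fun j => pow_zero _)]
    by_cases hd : ∀ j, j ≠ i → d j = 0
    · rw [Finset.prod_eq_single i (fun j _ hj => by rw [hd j hj, pow_zero]) (by simp), if_pos rfl,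
        Polynomial.coeff_X_pow]
      have e : d = Finsupp.single i m ↔ m = d i := by
        refine ⟨fun e => by rw [e, Finsupp.single_eq_same], fun e => Finsupp.ext fun j => ?_⟩
        rcases eq_or_ne j i with rfl | hj
        · rw [Finsupp.single_eq_same, e]
        · rw [Finsupp.single_eq_of_ne hj, hd j hj]
      simp [e]
    · push Not at hd
      obtain ⟨j, hj, hdj⟩ := hd
      rw [Finset.prod_eq_zero (Finset.mem_univ j) (by rw [if_neg hj, zero_pow hdj]), Polynomial.coeff_zero,
        mul_zero, if_neg]
      intro e
      exact hdj (by rw [e, Finsupp.single_eq_of_ne hj])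
  | add p q hp hq => rw [map_add, Polynomial.coeff_add, MvPolynomial.coeff_add, hp, hq]

variable [CharZero k]

theorem mem_range_of_branches {P : Node k}
    (h0 : Polynomial.derivative (nodeLift k (S := Polynomial k) Polynomial.X 0 (mul_zero (Polynomial.X : Polynomial k)) P) = 0)
    (h1 : Polynomial.derivative (nodeLift k (S := Polynomial k) 0 Polynomial.X (zero_mul (Polynomial.X : Polynomial k)) P) = 0) :
    P ∈ Set.range (algebraMap k (Node k)) := by
  classical
  obtain ⟨p, rfl⟩ := Ideal.Quotient.mk_surjective P
  rw [nodeLift_mk] at h0 h1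
  have e0 : (![Polynomial.X, 0] : Fin 2 → Polynomial k) = fun j => if j = 0 then Polynomial.X else 0 := by
    funext j; fin_cases j <;> simp
  have e1 : (![0, Polynomial.X] : Fin 2 → Polynomial k) = fun j => if j = 1 then Polynomial.X else 0 := by
    funext j; fin_cases j <;> simp
  rw [e0] at h0
  rw [e1] at h1
  refine ⟨MvPolynomial.constantCoeff p, ?_⟩
  rw [IsScalarTower.algebraMap_apply k (MvPolynomial (Fin 2) k) (Node k), MvPolynomial.algebraMap_eq,
    Ideal.Quotient.algebraMap_eq, eq_comm, Ideal.Quotient.eq]
  rw [show (MvPolynomial.X 0 * MvPolynomial.X 1 : MvPolynomial (Fin 2) k) =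
      MvPolynomial.monomial (Finsupp.single 0 1 + Finsupp.single 1 1) 1 by
    simp [MvPolynomial.X, MvPolynomial.monomial_mul],
    ← Set.image_singleton (f := fun s => MvPolynomial.monomial s (1 : k)),
    MvPolynomial.mem_ideal_span_monomial_image]
  intro d hd
  refine ⟨_, rfl, ?_⟩
  rw [MvPolynomial.mem_support_iff, MvPolynomial.coeff_sub, MvPolynomial.coeff_C] at hd
  have hd0 : d ≠ 0 := by
    rintro rfl
    simp [MvPolynomial.constantCoeff_eq] at hd
  rw [if_neg (Ne.symm hd0), sub_zero] at hd
  have key : ∀ i : Fin 2, Polynomial.derivative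
      (MvPolynomial.aeval (fun j => if j = i then (Polynomial.X : Polynomial k) else 0) p) = 0 →
      ¬ ∀ j, j ≠ i → d j = 0 := by
    intro i hi hall
    have e : d = Finsupp.single i (d i) := Finsupp.ext fun j => by
      rcases eq_or_ne j i with rfl | hj
      · rw [Finsupp.single_eq_same]
      · rw [Finsupp.single_eq_of_ne hj, hall j hj]
    have hdi : d i ≠ 0 := fun h => hd0 (by rw [e, h, Finsupp.single_zero])
    apply hd
    rw [e, ← coeff_branch, Polynomial.eq_C_of_derivative_eq_zero hi, Polynomial.coeff_C, if_neg hdi]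
  have k1 : d 1 ≠ 0 := fun h => key 0 h0 fun j hj => by fin_cases j <;> simp_all
  have k0 : d 0 ≠ 0 := fun h => key 1 h1 fun j hj => by fin_cases j <;> simp_all
  intro j
  fin_cases j <;> simp <;> omega

theorem D_node_eq_zero_iff (P : Node k) :
    D k (Node k) P = 0 ↔ P ∈ Set.range (algebraMap k (Node k)) := by
  refine ⟨fun h => mem_range_of_branches k (D_branch_eq_zero k _ h) (D_branch_eq_zero k _ h), ?_⟩
  rintro ⟨r, rfl⟩
  exact Derivation.map_algebraMap _ _

theorem D_node_not_surjective : ¬ Function.Surjective (D k (Node k)) := by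
  intro hs
  let x : Node k := Ideal.Quotient.mk _ (MvPolynomial.X 0)
  let y : Node k := Ideal.Quotient.mk _ (MvPolynomial.X 1)
  obtain ⟨P, hP⟩ := hs (x • D k (Node k) y)
  have hbr : ∀ (a b : Polynomial k) (h : a * b = 0), a = 0 ∨ b = 0 →
      Polynomial.derivative (nodeLift k a b h P) = 0 := by
    intro a b h hab
    letI : Algebra (Node k) (Polynomial k) := (nodeLift k a b h).toRingHom.toAlgebra
    haveI : IsScalarTower k (Node k) (Polynomial k) :=
      IsScalarTower.of_algebraMap_eq fun r => ((nodeLift k a b h).commutes r).symm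
    have e : D k (Polynomial k) (nodeLift k a b h P) =
        a • D k (Polynomial k) b := by
      rw [show nodeLift k a b h P = algebraMap (Node k) (Polynomial k) P from rfl,
        ← KaehlerDifferential.map_D k k (Node k) (Polynomial k), hP, map_smul, KaehlerDifferential.map_D]
      have ex : algebraMap (Node k) (Polynomial k) x = a := (nodeLift_mk k a b h _).trans (by simp)
      have ey : algebraMap (Node k) (Polynomial k) y = b := (nodeLift_mk k a b h _).trans (by simp)
      refine (algebraMap_smul (R := Node k) (Polynomial k) (M := KaehlerDifferential k (Polynomial k)) x _).symm.trans ?_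
      rw [ex, ey]
    rw [← KaehlerDifferential.polynomialEquiv_D, e]
    rcases hab with rfl | rfl <;> simp
  have hPc := mem_range_of_branches k (hbr _ _ _ (Or.inr rfl)) (hbr _ _ _ (Or.inl rfl))
  obtain ⟨r, rfl⟩ := hPc
  rw [Derivation.map_algebraMap] at hP
  let ε : DualNumber k := DualNumber.eps
  let S := TrivSqZeroExt (DualNumber k) (DualNumber k)
  let u : S := (ε, (-1 : DualNumber k))
  let v : S := (ε, (1 : DualNumber k))
  have huv : u * v = 0 := by
    refine TrivSqZeroExt.ext ?_ ?_
    · show ε * ε = 0
      exact DualNumber.eps_mul_eps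
    · show ε * 1 + MulOpposite.op ε • (-1 : DualNumber k) = 0
      rw [op_smul_eq_smul, smul_eq_mul, mul_neg, add_neg_cancel]
  let Φ := nodeLift k u v huv
  let ψ : Node k →ₐ[k] DualNumber k := ((TrivSqZeroExt.fstHom (DualNumber k) (DualNumber k) (DualNumber k)).restrictScalars k).comp Φ
  letI : Algebra (Node k) (DualNumber k) := ψ.toRingHom.toAlgebra
  haveI : IsScalarTower k (Node k) (DualNumber k) := IsScalarTower.of_algebraMap_eq fun r => (ψ.commutes r).symm
  let δ₀ : Node k →ₗ[k] DualNumber k :=
    { toFun := fun a => (Φ a).snd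
      map_add' := fun a b => by rw [map_add, TrivSqZeroExt.snd_add]
      map_smul' := fun c a => by rw [map_smul, TrivSqZeroExt.snd_smul, RingHom.id_apply] }
  let δ : Derivation k (Node k) (DualNumber k) := Derivation.mk' δ₀ fun a b => by
    show (Φ (a * b)).snd = (Φ a).fst * (Φ b).snd + (Φ b).fst * (Φ a).snd
    rw [map_mul, TrivSqZeroExt.snd_mul, op_smul_eq_smul]
    rfl
  have := congrArg δ.liftKaehlerDifferential hP
  rw [map_zero, map_smul, Derivation.liftKaehlerDifferential_comp_D] at this
  have e : x • δ y = ε := by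
    show (Φ x).fst * (Φ y).snd = ε
    rw [show Φ x = u from (nodeLift_mk k u v huv _).trans (by simp), show Φ y = v from (nodeLift_mk k u v huv _).trans (by simp)]
    exact mul_one ε
  rw [e] at this
  have := congrArg TrivSqZeroExt.snd this
  simp [ε] at this

end Groth.Agent.DeRhamH7
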